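import Groth.Agent.GrpQLib.GraphImage

/-! The image of an orbit map with flat stabilizer. -/

universe u

set_option autoImplicit false
set_option backward.isDefEq.respectTransparency.types false
set_option maxHeartbeats 800000

open CategoryTheory CategoryTheory.Limits MonoidalCategory CartesianMonoidalCategory MonObj GrpObj AlgebraicGeometry
open Groth.Agent.AlgGrpLib

namespace Groth.Agent.GrpQLib

variable {S : Scheme.{u}} {G X : Over S} [GrpObj G] (a : AlgGrp.Action G X) (ξ : 𝟙_ (Over S) ⟶ X)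

theorem comp_orbitMap {T : Over S} (g : T ⟶ G) :
    g ≫ a.orbitMap ξ = lift g (toUnit T ≫ ξ) ≫ a.act := by
  rw [AlgGrp.Action.orbitMap, ← Category.assoc, comp_lift, Category.comp_id, ← Category.assoc,
    toUnit_unique (g ≫ toUnit G) (toUnit T)]

theorem stab_orbit : pullback.fst (a.orbitMap ξ) ξ ≫ a.orbitMap ξ = toUnit _ ≫ ξ := by
  rw [pullback.condition, toUnit_unique (pullback.snd (a.orbitMap ξ) ξ) (toUnit _)]

theorem isPullback_orbitMap :
    IsPullback ((G ◁ pullback.fst (a.orbitMap ξ) ξ) ≫ μ[G]) (fst G (pullback (a.orbitMap ξ) ξ))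
      (a.orbitMap ξ) (a.orbitMap ξ) := by
  have hμ : (G ◁ pullback.fst (a.orbitMap ξ) ξ) ≫ μ[G] =
      fst G (pullback (a.orbitMap ξ) ξ) * (snd G (pullback (a.orbitMap ξ) ξ) ≫ pullback.fst (a.orbitMap ξ) ξ) := by
    rw [Hom.mul_def]
    congr 1
  have hw : CommSq ((G ◁ pullback.fst (a.orbitMap ξ) ξ) ≫ μ[G]) (fst G (pullback (a.orbitMap ξ) ξ))
      (a.orbitMap ξ) (a.orbitMap ξ) := by
    refine ⟨?_⟩
    rw [comp_orbitMap, comp_orbitMap, hμ, ← act_act, ← comp_orbitMap a ξ (snd G _ ≫ pullback.fst _ _),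
      Category.assoc, stab_orbit, ← Category.assoc, toUnit_unique (snd G _ ≫ toUnit _) (toUnit _)]
  have hs : ∀ s : PullbackCone (a.orbitMap ξ) (a.orbitMap ξ),
      ((s.snd)⁻¹ * s.fst) ≫ a.orbitMap ξ = toUnit _ ≫ ξ := fun s => by
    rw [comp_orbitMap]
    refine inv_mul_act a _ _ _ ?_
    rw [← comp_orbitMap, ← comp_orbitMap, s.condition]
  refine IsPullback.of_isLimit' hw (PullbackCone.IsLimit.mk _
    (fun s => lift s.snd (pullback.lift ((s.snd)⁻¹ * s.fst) (toUnit _) (hs s)))
    (fun s => ?_) (fun s => lift_fst _ _) (fun s m h1 h2 => ?_))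
  · rw [hμ, MonObj.comp_mul, lift_fst, lift_snd_assoc, pullback.lift_fst, mul_inv_cancel_left]
  · refine CartesianMonoidalCategory.hom_ext _ _ (h2.trans (lift_fst _ _).symm) ?_
    rw [lift_snd]
    refine pullback.hom_ext ?_ (toUnit_unique _ _)
    rw [hμ, MonObj.comp_mul] at h1
    rw [pullback.lift_fst, ← h1, h2, Category.assoc, inv_mul_cancel_left]

theorem exists_orbit_image [LocallyOfFinitePresentation G.hom] [LocallyOfFiniteType X.hom]
    (hH : Flat (pullback (a.orbitMap ξ) ξ).hom) :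
    ∃ (Q : Over S) (p : G ⟶ Q) (i : Q ⟶ X), p ≫ i = a.orbitMap ξ ∧
      Surjective p.left ∧ Flat p.left ∧ LocallyOfFinitePresentation p.left ∧ Mono i ∧
      LocallyOfFinitePresentation Q.hom ∧
      IsPullback ((G ◁ pullback.fst (a.orbitMap ξ) ξ) ≫ μ[G]) (fst G (pullback (a.orbitMap ξ) ξ)) p p := by
  let o := a.orbitMap ξ
  have : LocallyOfFinitePresentation (o.left ≫ X.hom) := by rw [Over.w]; infer_instance
  have : LocallyOfFinitePresentation o.left := H8Lim.lfp_cancel_right o.left X.hom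
  have hfl : Flat (pullback.snd o.left o.left) := by
    have sq := (isPullback_orbitMap a ξ).map (Over.forget S)
    refine (MorphismProperty.cancel_left_of_respectsIso @Flat sq.isoPullback.hom _).1 ?_
    exact (congrArg (fun z => Flat z) sq.isoPullback_hom_snd).mpr
      (MorphismProperty.pullback_fst (P := @Flat) _ _ hH)
  have : Flat (pullback.fst o.left o.left) := by
    rw [← pullbackSymmetry_hom_comp_snd]; infer_instance
  obtain ⟨X', f', f'', h1, h2, h3, h4, e⟩ := exists_factor o.left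
  let Q : Over S := Over.mk (f'' ≫ X.hom)
  let p : G ⟶ Q := Over.homMk f' (by show f' ≫ f'' ≫ X.hom = G.hom; rw [reassoc_of% e, Over.w])
  let i : Q ⟶ X := Over.homMk f''
  have hpi : p ≫ i = o := Over.OverMorphism.ext e
  have : Mono i := Over.mono_of_mono_left (Over.homMk f'' : Q ⟶ X)
  have sqo : IsPullback ((G ◁ pullback.fst (a.orbitMap ξ) ξ) ≫ μ[G]) (fst G (pullback (a.orbitMap ξ) ξ))
      (p ≫ i) (p ≫ i) := by rw [hpi]; exact isPullback_orbitMap a ξ
  refine ⟨Q, p, i, hpi, h1, h2, h3, inferInstance, ?_, ?_⟩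
  · exact AlgSpLib.lfp_of_comp_fppf f' (f'' ≫ X.hom) (by rw [reassoc_of% e, Over.w]; infer_instance)
  · refine IsPullback.of_isLimit' ⟨?_⟩ (PullbackCone.IsLimit.mk _
      (fun s => sqo.lift s.fst s.snd (by rw [reassoc_of% s.condition]))
      (fun s => sqo.lift_fst _ _ _) (fun s => sqo.lift_snd _ _ _)
      (fun s m k1 k2 => sqo.hom_ext (k1.trans (sqo.lift_fst _ _ _).symm) (k2.trans (sqo.lift_snd _ _ _).symm)))
    rw [← cancel_mono i, Category.assoc, Category.assoc]
    exact sqo.w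

end Groth.Agent.GrpQLib
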