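import Groth.Agent.GrpQLib.ChevalleyPoint
import Groth.Agent.GrpQLib.OrbitImage
import Groth.Agent.GrassLib.PluckerOver
import Groth.Agent.GrassLib.OverPoints
import Groth.Agent.HopfQuot.SchemeQuot
import Groth.Agent.GrpdLib.SmoothOverField
import Groth.Agent.SGA3cLib.MonoClosed
import Groth.Agent.RelVALib.ChowPn

/-! Quotients of affine algebraic groups by subgroups. -/

universe u

set_option autoImplicit false
set_option backward.isDefEq.respectTransparency.types false
set_option maxHeartbeats 800000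

open CategoryTheory CategoryTheory.Limits MonoidalCategory CartesianMonoidalCategory MonObj GrpObj AlgebraicGeometry
open WithConv
open Groth.Agent.HopfQuot Groth.Agent.GrassLib

namespace Groth.Agent.GrpQLib

section desc

variable {S : Scheme.{u}}

theorem exists_desc_fppf {T T' X : Over S} (c : T' ⟶ T) [Surjective c.left] [Flat c.left]
    [LocallyOfFinitePresentation c.left] (h : T' ⟶ X)
    (hh : ∀ {W : Over S} (a b : W ⟶ T'), a ≫ c = b ≫ c → a ≫ h = b ≫ h) : ∃ y : T ⟶ X, c ≫ y = h := by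
  have hd : ∀ {W : Scheme.{u}} (g₁ g₂ : W ⟶ T'.left), g₁ ≫ c.left = g₂ ≫ c.left →
      g₁ ≫ h.left = g₂ ≫ h.left := fun {W} g₁ g₂ e => by
    let W' : Over S := Over.mk (g₁ ≫ T'.hom)
    let a : W' ⟶ T' := Over.homMk g₁
    let b : W' ⟶ T' := Over.homMk g₂ (by
      change g₂ ≫ T'.hom = g₁ ≫ T'.hom
      rw [← Over.w c, ← Category.assoc, ← e, Category.assoc])
    exact congrArg CommaMorphism.left (hh a b (Over.OverMorphism.ext e))
  let r : T.left ⟶ X.left := EffectiveEpi.desc c.left h.left hd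
  have hr : c.left ≫ r = h.left := EffectiveEpi.fac c.left h.left hd
  have hw : r ≫ X.hom = T.hom := by
    rw [← cancel_epi c.left, reassoc_of% hr, Over.w h, Over.w c]
  exact ⟨Over.homMk r hw, Over.OverMorphism.ext hr⟩

variable {G H Q : Over S} [GrpObj G] [GrpObj H]

theorem exists_action_quotient [LocallyOfFinitePresentation G.hom] (i : H ⟶ G) [IsMonHom i] (p : G ⟶ Q)
    [Surjective p.left] [Flat p.left] [LocallyOfFinitePresentation p.left]
    (sq : IsPullback (fst G H) ((G ◁ i) ≫ μ[G]) p p) :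
    ∃ a : AlgGrp.Action G Q, a.orbitMap (η[G] ≫ p) = p := by
  have hsurj : ∀ {A : Over S}, Surjective (A ◁ p).left ∧ Flat (A ◁ p).left ∧
      LocallyOfFinitePresentation (A ◁ p).left := fun {A} =>
    ⟨MorphismProperty.pullbackMap (P := @Surjective) (inferInstanceAs (Surjective (𝟙 A.left)))
        ‹Surjective p.left› (Category.id_comp A.hom).symm (Over.w p).symm,
      MorphismProperty.pullbackMap (P := @Flat) (inferInstanceAs (Flat (𝟙 A.left)))
        ‹Flat p.left› (Category.id_comp A.hom).symm (Over.w p).symm,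
      MorphismProperty.pullbackMap (P := @LocallyOfFinitePresentation)
        (inferInstanceAs (LocallyOfFinitePresentation (𝟙 A.left)))
        ‹LocallyOfFinitePresentation p.left› (Category.id_comp A.hom).symm (Over.w p).symm⟩
  obtain ⟨_, _, _⟩ := hsurj (A := G)
  have hμ : (G ◁ i) ≫ μ[G] = fst G H * (snd G H ≫ i) := by
    rw [Hom.mul_def]; congr 1
  obtain ⟨act, hact⟩ := exists_desc_fppf (G ◁ p) (μ[G] ≫ p) (fun {W} x y hxy => by
    have h1 : x ≫ fst G G = y ≫ fst G G := by simpa using congrArg (· ≫ fst G Q) hxy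
    have h2 : (x ≫ snd G G) ≫ p = (y ≫ snd G G) ≫ p := by simpa using congrArg (· ≫ snd G Q) hxy
    obtain ⟨l, hl1, hl2⟩ : ∃ l : W ⟶ G ⊗ H, l ≫ fst G H = x ≫ snd G G ∧ l ≫ (G ◁ i) ≫ μ[G] = y ≫ snd G G :=
      ⟨sq.lift _ _ h2, sq.lift_fst _ _ _, sq.lift_snd _ _ _⟩
    rw [hμ, MonObj.comp_mul, hl1] at hl2
    have ex : ∀ w : W ⟶ G ⊗ G, w ≫ μ[G] = (w ≫ fst G G) * (w ≫ snd G G) := fun w => by
      rw [Hom.mul_def, ← comp_lift, lift_fst_snd, Category.comp_id]
    have h3 : lift ((x ≫ fst G G) * (x ≫ snd G G)) (l ≫ snd G H) ≫ (fst G H ≫ p) =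
        lift ((x ≫ fst G G) * (x ≫ snd G G)) (l ≫ snd G H) ≫ ((G ◁ i) ≫ μ[G]) ≫ p := by rw [sq.w]
    rw [lift_fst_assoc, ← Category.assoc _ ((G ◁ i) ≫ μ[G]), hμ, MonObj.comp_mul, lift_fst, lift_snd_assoc,
      _root_.mul_assoc, Category.assoc, hl2, h1] at h3
    rw [← Category.assoc, ← Category.assoc, ex, ex, h1]
    exact h3)
  obtain ⟨_, _, _⟩ := hsurj (A := G ⊗ G)
  have hact' : ∀ {T : Over S} (g h : T ⟶ G), lift g (h ≫ p) ≫ act = (g * h) ≫ p := fun g h => by
    rw [← lift_whiskerLeft g h p, Category.assoc, hact, ← Category.assoc, ← Hom.mul_def]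
  obtain ⟨_, _, _⟩ := hsurj (A := 𝟙_ (Over S))
  have e1 : (η[G] ▷ Q) ≫ act = (λ_ Q).hom := by
    have : Epi (𝟙_ (Over S) ◁ p) := Over.epi_of_epi_left _
    rw [← cancel_epi (𝟙_ (Over S) ◁ p), whisker_exchange_assoc, hact, ← Category.assoc, MonObj.one_mul,
      leftUnitor_naturality]
  have e2 : (μ[G] ▷ Q) ≫ act = (α_ G G Q).hom ≫ (G ◁ act) ≫ act := by
    have : Epi ((G ⊗ G) ◁ p) := Over.epi_of_epi_left _
    rw [← cancel_epi ((G ⊗ G) ◁ p), whisker_exchange_assoc, hact, MonoidalCategory.associator_naturality_right_assoc,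
      ← MonoidalCategory.whiskerLeft_comp_assoc, hact, MonoidalCategory.whiskerLeft_comp, Category.assoc, hact,
      MonObj.mul_assoc_assoc]
  refine ⟨⟨act, e1, e2⟩, ?_⟩
  show lift (𝟙 G) (toUnit G ≫ η[G] ≫ p) ≫ act = p
  rw [← Category.assoc, hact', ← Hom.one_def, _root_.mul_one, Category.id_comp]

end desc

variable {k : Type u} [Field k] {A B : Type u} [CommRing A] [HopfAlgebra k A] [CommRing B] [HopfAlgebra k B]
  {π : A →ₐc[k] B} {d e : ℕ}

/-- The algebra map of a point of `spec A`. -/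
noncomputable def ptOf {T : CommAlgCat.{u} k} (p : GrassLib.pt T ⟶ spec (k := k) A) : Pt k A T :=
  (ptSpec (k := k) (A := A) (T := T)).symm p

theorem exists_grassHom (D : ChevData k A π d e) :
    ∃ φ : spec (k := k) A ⟶ GrOver (d + e) e k, ∀ (T : CommAlgCat.{u} k) (p : GrassLib.pt T ⟶ spec (k := k) A),
      repFree (d + e) e k T (p ≫ φ) = D.grass (ptOf p) := by
  obtain ⟨φ, hφ⟩ := GrassLib.exists_hom (X := spec (k := k) A) (Y := GrOver (d + e) e k)
    (fun T p => (repFree (d + e) e k T).symm (D.grass (ptOf p))) (fun T T' f g g' h => by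
      obtain ⟨z, hz⟩ := (ptSpec (k := k) (A := A) (T := T)).surjective g
      subst hz
      let h₀ : GrassLib.pt T' ⟶ GrassLib.pt T := Over.homMk (Spec.map (CommRingCat.ofHom f.hom.toRingHom)) (by
        show Spec.map _ ≫ Spec.map _ = Spec.map _
        rw [← Spec.map_comp, ← CommRingCat.ofHom_comp]
        exact congrArg (fun r => Spec.map (CommRingCat.ofHom r)) f.hom.comp_algebraMap)
      have hg' : g' = ptSpec (HopfQuot.push f.hom z) := by
        refine Over.OverMorphism.ext (h.trans ?_)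
        show Spec.map _ ≫ Spec.map _ = Spec.map _
        rw [← Spec.map_comp]
        rfl
      subst hg'
      have e1 : ∀ w : Pt k A T', ptOf (T := T') (ptSpec w) = w := fun w => MulEquiv.symm_apply_apply _ w
      have e2 : ptOf (T := T) (ptSpec z) = z := MulEquiv.symm_apply_apply _ z
      have key : (repFree (d + e) e k T').symm (D.grass (ptOf (T := T') (ptSpec (HopfQuot.push f.hom z)))) =
          h₀ ≫ (repFree (d + e) e k T).symm (D.grass (ptOf (T := T) (ptSpec z))) := by
        rw [Equiv.symm_apply_eq, repFree_natural T T' f _ _ rfl, Equiv.apply_symm_apply, e1, e2]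
        exact (D.grass_push f z).symm
      exact congrArg CommaMorphism.left key)
  exact ⟨φ, fun T p => by rw [hφ, Equiv.apply_symm_apply]⟩

theorem grassHom_eq_iff (D : ChevData k A π d e) (hπ : Function.Surjective π)
    (φ : spec (k := k) A ⟶ GrOver (d + e) e k)
    (hφ : ∀ (T : CommAlgCat.{u} k) (p : GrassLib.pt T ⟶ spec (k := k) A), repFree (d + e) e k T (p ≫ φ) = D.grass (ptOf p))
    {T : CommAlgCat.{u} k} (p q : GrassLib.pt T ⟶ spec (k := k) A) :
    p ≫ φ = q ≫ φ ↔ ∃ b : GrassLib.pt T ⟶ spec (k := k) B, b ≫ specHom π = p⁻¹ * q := by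
  rw [← (repFree (d + e) e k T).injective.eq_iff, hφ, hφ]
  refine (D.grass_eq_iff_coset (ptOf p) (ptOf q)).trans ?_
  have hpq : ptSpec ((ptOf p)⁻¹ * ptOf q) = p⁻¹ * q := by
    rw [map_mul, map_inv]
    exact congrArg₂ (fun x y => x⁻¹ * y) (MulEquiv.apply_symm_apply _ p) (MulEquiv.apply_symm_apply _ q)
  rw [← hpq]
  constructor
  · intro hu
    have hker : RingHom.ker (π : A →ₐ[k] B).toRingHom ≤ RingHom.ker ((ptOf p)⁻¹ * ptOf q).ofConv.toRingHom :=
      fun x hx => hu x hx
    refine ⟨ptSpec (toConv (AlgHom.liftOfSurjective (π : A →ₐ[k] B) hπ _ hker)), ?_⟩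
    refine (ptSpec_comp π _).trans ?_
    exact congrArg _ (WithConv.ext (AlgHom.ext fun x => AlgHom.liftOfSurjective_apply (π : A →ₐ[k] B) hπ _ hker x))
  · rintro ⟨b, hb⟩ y hy
    obtain ⟨β, hβ⟩ := (ptSpec (k := k) (A := B) (T := T)).surjective b
    subst hβ
    rw [← (ptSpec (k := k)).injective ((ptSpec_comp π β).symm.trans hb)]
    show β.ofConv (π y) = 0
    rw [show π y = 0 from hy, map_zero]

theorem exists_quotient_affine (G H : Over (Spec (CommRingCat.of k))) [GrpObj G] [GrpObj H] [IsAffine G.left]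
    [LocallyOfFiniteType G.hom] [LocallyOfFiniteType H.hom] [QuasiCompact H.hom] (i : H ⟶ G) [IsMonHom i]
    [Mono i] :
    ∃ (X : Over (Spec (CommRingCat.of k))) (a : AlgGrp.Action G X) (o : 𝟙_ (Over (Spec (CommRingCat.of k))) ⟶ X),
      LocallyOfFiniteType X.hom ∧ QuasiCompact X.hom ∧
      Flat (a.orbitMap o).left ∧ Surjective (a.orbitMap o).left ∧
      IsPullback (fst G H) ((G ◁ i) ≫ μ[G]) (a.orbitMap o) (a.orbitMap o) := by
  have : QuasiCompact (i.left ≫ G.hom) := by rw [Over.w]; infer_instance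
  have : QuasiCompact i.left := QuasiCompact.of_comp i.left G.hom
  have : IsClosedImmersion i.left := SGA3cLib.isClosedImmersion_of_mono i
  have : IsAffine H.left := isAffine_of_isAffineHom i.left
  obtain ⟨A, _, _, e, _, _⟩ := exists_spec (k := k) G
  obtain ⟨B, _, _, e', _, _⟩ := exists_spec (k := k) H
  haveI : IsIso e.left := inferInstanceAs (IsIso ((Over.forget _).map e))
  haveI : IsIso e'.left := inferInstanceAs (IsIso ((Over.forget _).map e'))
  haveI : IsIso (CategoryTheory.inv e).left := inferInstanceAs (IsIso ((Over.forget _).map (CategoryTheory.inv e)))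
  haveI : IsMonHom (CategoryTheory.inv e) := inferInstanceAs (IsMonHom (asIso e).inv)
  obtain ⟨π, hπj⟩ := exists_specHom (k := k) (A := A) (B := B) (e' ≫ i ≫ CategoryTheory.inv e)
  have hπi : specHom π ≫ e = e' ≫ i := by rw [hπj]; simp
  haveI hci : IsClosedImmersion (Spec.map (CommRingCat.ofHom (π : A →+* B))) := by
    rw [← specHom_left, hπj, Over.comp_left, Over.comp_left]
    haveI h2 : IsClosedImmersion (i.left ≫ (CategoryTheory.inv e).left) := inferInstance
    haveI h3 : IsClosedImmersion e'.left := inferInstance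
    exact MorphismProperty.comp_mem @IsClosedImmersion _ _ h3 h2
  have hπ : Function.Surjective π := by
    have h := Scheme.Hom.app_surjective (Spec.map (CommRingCat.ofHom (π : A →+* B))) ⊤ (isAffineOpen_top _)
    have e0 := Scheme.ΓSpecIso_inv_naturality (CommRingCat.ofHom (π : A →+* B))
    intro y
    obtain ⟨z, hz⟩ := h ((Scheme.ΓSpecIso (CommRingCat.of B)).inv y)
    obtain ⟨x, rfl⟩ := (ConcreteCategory.bijective_of_isIso (Scheme.ΓSpecIso (CommRingCat.of A)).inv).2 z
    refine ⟨x, (ConcreteCategory.bijective_of_isIso (Scheme.ΓSpecIso (CommRingCat.of B)).inv).1 ?_⟩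
    exact (congrArg (fun f => f.hom x) e0).trans hz
  haveI : LocallyOfFiniteType (spec (k := k) A).hom := by rw [← Over.w e]; infer_instance
  haveI hft : Algebra.FiniteType k A :=
    RingHom.finiteType_algebraMap.1 ((HasRingHomProperty.Spec_iff (P := @LocallyOfFiniteType)
      (φ := CommRingCat.ofHom (algebraMap k A))).1 ‹LocallyOfFiniteType (spec (k := k) A).hom›)
  obtain ⟨d, n, a, hε, hΔ, hπa, hcut⟩ := HopfLib.exists_matrix_cutting_out π hπ
  let D : ChevData k A π d n := ⟨a, hε, hΔ, hπa, hcut⟩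
  obtain ⟨φ, hφ⟩ := exists_grassHom D
  let φG : G ⟶ GrOver (d + n) n k := CategoryTheory.inv e ≫ φ
  have hcoset : ∀ {T : CommAlgCat.{u} k} (p q : GrassLib.pt T ⟶ G),
      p ≫ φG = q ≫ φG ↔ ∃ h : GrassLib.pt T ⟶ H, h ≫ i = p⁻¹ * q := by
    intro T p q
    have key := grassHom_eq_iff D hπ φ hφ (p ≫ CategoryTheory.inv e) (q ≫ CategoryTheory.inv e)
    rw [Category.assoc, Category.assoc] at key
    refine key.trans ⟨?_, ?_⟩
    · rintro ⟨b, hb⟩
      refine ⟨b ≫ e', ?_⟩
      rw [Category.assoc, ← hπi, ← Category.assoc, hb, ← GrpObj.inv_comp, ← MonObj.mul_comp, Category.assoc,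
        IsIso.inv_hom_id, Category.comp_id]
    · rintro ⟨h, hh⟩
      refine ⟨h ≫ CategoryTheory.inv e', ?_⟩
      rw [← cancel_mono e, Category.assoc, hπi, Category.assoc, IsIso.inv_hom_id_assoc, hh, ← GrpObj.inv_comp,
        ← MonObj.mul_comp, Category.assoc, IsIso.inv_hom_id, Category.comp_id]
  have hμ : (G ◁ i) ≫ μ[G] = fst G H * (snd G H ≫ i) := by
    rw [Hom.mul_def]; congr 1
  have hw : fst G H ≫ φG = ((G ◁ i) ≫ μ[G]) ≫ φG := GrassLib.hom_ext_points fun T p => by
    refine (Category.assoc _ _ _).symm.trans (((hcoset _ _).2 ⟨p ≫ snd G H, ?_⟩).trans (Category.assoc _ _ _))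
    rw [hμ, MonObj.comp_mul, inv_mul_cancel_left, Category.assoc]
  have hex : ∀ {T : Over (Spec (CommRingCat.of k))} (x y : T ⟶ G), x ≫ φG = y ≫ φG →
      ∃ h : T ⟶ H, h ≫ i = x⁻¹ * y := by
    intro T x y hxy
    have hp : ∀ (A' : CommAlgCat.{u} k) (p : GrassLib.pt A' ⟶ T), ∃ h : GrassLib.pt A' ⟶ H, h ≫ i = p ≫ (x⁻¹ * y) :=
      fun A' p => by
        obtain ⟨h, hh⟩ := (hcoset (p ≫ x) (p ≫ y)).1 (by rw [Category.assoc, hxy, Category.assoc])
        exact ⟨h, by rw [hh, MonObj.comp_mul, GrpObj.comp_inv]⟩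
    choose F hF using hp
    obtain ⟨h, hh⟩ := GrassLib.exists_hom F fun A' B' f g g' hg => by
      have : Mono i.left := inferInstanceAs (Mono ((Over.forget _).map i))
      rw [← cancel_mono i.left, Category.assoc]
      have h1 : (F B' g').left ≫ i.left = g'.left ≫ (x⁻¹ * y).left := congrArg CommaMorphism.left (hF B' g')
      have h2 : (F A' g).left ≫ i.left = g.left ≫ (x⁻¹ * y).left := congrArg CommaMorphism.left (hF A' g)
      rw [h1, h2, hg, Category.assoc]
    exact ⟨h, GrassLib.hom_ext_points fun A' p => by rw [← Category.assoc, hh, hF]⟩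
  choose hlift hhlift using @hex
  have sq : IsPullback (fst G H) ((G ◁ i) ≫ μ[G]) φG φG := by
    refine IsPullback.of_isLimit' ⟨hw⟩ (PullbackCone.IsLimit.mk _
      (fun s => lift s.fst (hlift s.fst s.snd s.condition))
      (fun s => lift_fst _ _) (fun s => ?_) (fun s m h1 h2 => ?_))
    · rw [hμ, MonObj.comp_mul, lift_fst, lift_snd_assoc, hhlift, mul_inv_cancel_left]
    · refine CartesianMonoidalCategory.hom_ext _ _ (h1.trans (lift_fst _ _).symm) ?_
      rw [lift_snd, ← cancel_mono i, hhlift]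
      rw [hμ, MonObj.comp_mul, h1] at h2
      rw [← h2, inv_mul_cancel_left, Category.assoc]
  have := RelVALib.isProper_toBase ((d + n).choose n - 1) (Spec (CommRingCat.of k))
  obtain ⟨c, _, hc⟩ := exists_closedImmersion_GrOver (R := k) (Nat.le_add_left n d)
  have : LocallyOfFiniteType (GrOver (d + n) n k).hom := by rw [← hc]; infer_instance
  have : LocallyOfFinitePresentation G.hom := LocallyOfFinitePresentation.iff_locallyOfFiniteType.2 ‹_›
  have : LocallyOfFinitePresentation (φG.left ≫ (GrOver (d + n) n k).hom) := by rw [Over.w]; infer_instance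
  have : LocallyOfFinitePresentation φG.left := H8Lim.lfp_cancel_right φG.left (GrOver (d + n) n k).hom
  have hHf : Flat H.hom := GrpdLib.flat_to_field H.hom k (Iso.refl _)
  have : Flat (pullback.fst φG.left φG.left) := by
    have sq' := sq.map (Over.forget (Spec (CommRingCat.of k)))
    refine (MorphismProperty.cancel_left_of_respectsIso @Flat sq'.isoPullback.hom _).1 ?_
    exact (congrArg (fun z => Flat z) sq'.isoPullback_hom_fst).mpr
      (MorphismProperty.pullback_fst (P := @Flat) _ _ hHf)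
  obtain ⟨X', f', f'', h1, h2, h3, h4, ef⟩ := exists_factor φG.left
  let Q : Over (Spec (CommRingCat.of k)) := Over.mk (f'' ≫ (GrOver (d + n) n k).hom)
  let p : G ⟶ Q := Over.homMk f' (by
    show f' ≫ f'' ≫ (GrOver (d + n) n k).hom = G.hom
    rw [reassoc_of% ef, Over.w])
  let j'' : Q ⟶ GrOver (d + n) n k := Over.homMk f''
  have hpι : p ≫ j'' = φG := Over.OverMorphism.ext ef
  have : Mono j'' := Over.mono_of_mono_left (Over.homMk f'' : Q ⟶ GrOver (d + n) n k)
  have : Surjective p.left := h1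
  have : Flat p.left := h2
  have : LocallyOfFinitePresentation p.left := h3
  have sqp : IsPullback (fst G H) ((G ◁ i) ≫ μ[G]) p p := by
    refine IsPullback.of_isLimit' ⟨?_⟩ (PullbackCone.IsLimit.mk _
      (fun s => sq.lift s.fst s.snd (by rw [← hpι, reassoc_of% s.condition]))
      (fun s => sq.lift_fst _ _ _) (fun s => sq.lift_snd _ _ _)
      (fun s m k1 k2 => sq.hom_ext (k1.trans (sq.lift_fst _ _ _).symm) (k2.trans (sq.lift_snd _ _ _).symm)))
    rw [← cancel_mono j'', Category.assoc, Category.assoc, hpι, sq.w, Category.assoc]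
  obtain ⟨act, hact⟩ := exists_action_quotient i p sqp
  refine ⟨Q, act, η[G] ≫ p, ?_, ?_, ?_, ?_, ?_⟩
  · have : LocallyOfFinitePresentation Q.hom :=
      AlgSpLib.lfp_of_comp_fppf f' (f'' ≫ (GrOver (d + n) n k).hom) (by rw [reassoc_of% ef, Over.w]; infer_instance)
    infer_instance
  · have : QuasiCompact (p.left ≫ Q.hom) := by rw [Over.w]; infer_instance
    exact FlatMorThick.quasiCompact_of_comp_surjective p.left Q.hom
  · rw [hact]; exact h2
  · rw [hact]; exact h1
  · rw [hact]; exact sqp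

end Groth.Agent.GrpQLib
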