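import Groth.Agent.GrpQLib.FactorMono
import Groth.Agent.AlgGrpLib.SubGrpMono
import Groth.Agent.AlgSpLib.FppfSource
import Groth.Agent.H8Lim.FinitePresentation

/-! Image of a homomorphism of group schemes with flat kernel. -/

universe u

set_option autoImplicit false
set_option backward.isDefEq.respectTransparency.types false
set_option maxHeartbeats 800000

open CategoryTheory CategoryTheory.Limits MonoidalCategory CartesianMonoidalCategory MonObj GrpObj AlgebraicGeometry

namespace Groth.Agent.GrpQLib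

variable {S : Scheme.{u}}

theorem exists_factor_fppf {T T' H G : Over S} (c : T' ⟶ T) [Surjective c.left] [Flat c.left]
    [LocallyOfFinitePresentation c.left]
    (i : H ⟶ G) [Mono i] (x : T ⟶ G) (h : T' ⟶ H) (hh : h ≫ i = c ≫ x) : ∃ y : T ⟶ H, y ≫ i = x := by
  have hd : ∀ {W : Scheme.{u}} (g₁ g₂ : W ⟶ T'.left), g₁ ≫ c.left = g₂ ≫ c.left →
      g₁ ≫ h.left = g₂ ≫ h.left := fun {W} g₁ g₂ e => by
    let W' : Over S := Over.mk (g₁ ≫ T'.hom)
    let a : W' ⟶ T' := Over.homMk g₁
    let b : W' ⟶ T' := Over.homMk g₂ (by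
      change g₂ ≫ T'.hom = g₁ ≫ T'.hom
      rw [← Over.w c, ← Category.assoc, ← e, Category.assoc])
    have hab : a ≫ c = b ≫ c := Over.OverMorphism.ext e
    have : a ≫ h = b ≫ h := by
      rw [← cancel_mono i, Category.assoc, Category.assoc, hh, ← Category.assoc, hab, Category.assoc]
    exact congrArg CommaMorphism.left this
  let r : T.left ⟶ H.left := EffectiveEpi.desc c.left h.left hd
  have hr : c.left ≫ r = h.left := EffectiveEpi.fac c.left h.left hd
  have hw : r ≫ H.hom = T.hom := by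
    rw [← cancel_epi c.left, reassoc_of% hr, Over.w h, Over.w c]
  refine ⟨Over.homMk r hw, ?_⟩
  have : Epi c := Over.epi_of_epi_left _
  rw [← cancel_epi c, ← Category.assoc, show c ≫ Over.homMk r hw = h from Over.OverMorphism.ext hr, hh]

variable {G H : Over S} [GrpObj G] [GrpObj H]

theorem isPullback_translate (u : G ⟶ H) [IsMonHom u] :
    IsPullback (fst G (pullback u η[H])) (fst G (pullback u η[H]) * (snd G (pullback u η[H]) ≫ pullback.fst u η[H])) u u := by
  have hk : pullback.fst u η[H] ≫ u = 1 := by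
    rw [pullback.condition, MonObj.one_eq_one, MonObj.comp_one]
  have hw : CommSq (fst G (pullback u η[H])) (fst G (pullback u η[H]) * (snd G (pullback u η[H]) ≫ pullback.fst u η[H])) u u :=
    ⟨by rw [MonObj.mul_comp, Category.assoc, hk, MonObj.comp_one, _root_.mul_one]⟩
  have hs : ∀ s : PullbackCone u u, ((s.fst)⁻¹ * s.snd) ≫ u = toUnit _ ≫ η[H] := fun s => by
    rw [MonObj.mul_comp, GrpObj.inv_comp, s.condition, inv_mul_cancel, MonObj.one_eq_one, MonObj.comp_one]
  refine IsPullback.of_isLimit' hw (PullbackCone.IsLimit.mk _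
    (fun s => lift s.fst (pullback.lift ((s.fst)⁻¹ * s.snd) (toUnit _) (hs s))) (fun s => lift_fst _ _)
    (fun s => ?_) (fun s m h1 h2 => ?_))
  · rw [MonObj.comp_mul, lift_fst, lift_snd_assoc, pullback.lift_fst, mul_inv_cancel_left]
  · refine CartesianMonoidalCategory.hom_ext _ _ (h1.trans (lift_fst _ _).symm) ?_
    rw [lift_snd]
    refine pullback.hom_ext ?_ (toUnit_unique _ _)
    rw [MonObj.comp_mul] at h2
    rw [pullback.lift_fst, ← h2, h1, Category.assoc, inv_mul_cancel_left]

theorem flat_fst_of_flat_kernel (u : G ⟶ H) [IsMonHom u] (hK : Flat (pullback u η[H]).hom) :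
    Flat (pullback.fst u.left u.left) := by
  have sq := (isPullback_translate u).map (Over.forget S)
  have h1 : Flat (fst G (pullback u η[H])).left := MorphismProperty.pullback_fst (P := @Flat) _ _ hK
  refine (MorphismProperty.cancel_left_of_respectsIso @Flat sq.isoPullback.hom _).1 ?_
  exact (congrArg (fun z => Flat z) sq.isoPullback_hom_fst).mpr h1

theorem exists_image [LocallyOfFinitePresentation G.hom] [LocallyOfFiniteType H.hom] (u : G ⟶ H) [IsMonHom u]
    (hK : Flat (pullback u η[H]).hom) :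
    ∃ (Q : Over S) (_ : GrpObj Q) (p : G ⟶ Q) (i : Q ⟶ H), IsMonHom p ∧ IsMonHom i ∧ p ≫ i = u ∧
      Surjective p.left ∧ Flat p.left ∧ LocallyOfFinitePresentation p.left ∧ Mono i ∧
      LocallyOfFinitePresentation Q.hom ∧ AlgGrp.IsKernel (pullback.fst u η[H]) p := by
  have : LocallyOfFinitePresentation (u.left ≫ H.hom) := by rw [Over.w]; infer_instance
  have : LocallyOfFinitePresentation u.left := H8Lim.lfp_cancel_right u.left H.hom
  have : Flat (pullback.fst u.left u.left) := flat_fst_of_flat_kernel u hK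
  obtain ⟨X', f', f'', h1, h2, h3, h4, e⟩ := exists_factor u.left
  let Q : Over S := Over.mk (f'' ≫ H.hom)
  let p : G ⟶ Q := Over.homMk f' (by show f' ≫ f'' ≫ H.hom = G.hom; rw [reassoc_of% e, Over.w])
  let i : Q ⟶ H := Over.homMk f''
  have hpi : p ≫ i = u := Over.OverMorphism.ext e
  have : Mono i := Over.mono_of_mono_left (Over.homMk f'' : Q ⟶ H)
  have : Surjective p.left := h1
  have : Flat p.left := h2
  have : LocallyOfFinitePresentation p.left := h3
  have : Surjective (p ⊗ₘ p).left :=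
    MorphismProperty.pullbackMap (P := @Surjective) h1 h1 (Over.w p).symm (Over.w p).symm
  have : Flat (p ⊗ₘ p).left :=
    MorphismProperty.pullbackMap (P := @Flat) h2 h2 (Over.w p).symm (Over.w p).symm
  have : LocallyOfFinitePresentation (p ⊗ₘ p).left :=
    MorphismProperty.pullbackMap (P := @LocallyOfFinitePresentation) h3 h3 (Over.w p).symm (Over.w p).symm
  obtain ⟨m, hm⟩ := exists_factor_fppf (p ⊗ₘ p) i ((fst Q Q ≫ i) * (snd Q Q ≫ i)) (μ[G] ≫ p) (by
    rw [Category.assoc, hpi, IsMonHom.mul_hom, MonObj.comp_mul, tensorHom_fst_assoc, tensorHom_snd_assoc,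
      hpi, Hom.mul_def]
    congr 1)
  obtain ⟨v, hv⟩ := exists_factor_fppf p i i⁻¹ (ι[G] ≫ p) (by
    rw [Category.assoc, hpi, GrpObj.comp_inv, hpi, Hom.inv_def]
    exact GrpObj.inv_hom u)
  obtain ⟨_, hi⟩ := AlgGrpLib.exists_grpObj_of_mono i
    ⟨η[G] ≫ p, by rw [Category.assoc, hpi, IsMonHom.one_hom, MonObj.one_eq_one]⟩ ⟨m, hm⟩ ⟨v, hv⟩
  have hp : IsMonHom p := {
    one_hom := by rw [← cancel_mono i, Category.assoc, hpi, IsMonHom.one_hom, IsMonHom.one_hom i]
    mul_hom := by rw [← cancel_mono i, Category.assoc, hpi, IsMonHom.mul_hom, Category.assoc, IsMonHom.mul_hom i,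
      ← Category.assoc, MonoidalCategory.tensorHom_comp_tensorHom, hpi] }
  refine ⟨Q, ‹GrpObj Q›, p, i, hp, hi, hpi, h1, h2, h3, inferInstance, ?_, ?_⟩
  · exact AlgSpLib.lfp_of_comp_fppf f' (f'' ≫ H.hom) (by rw [reassoc_of% e, Over.w]; infer_instance)
  · have : Mono (pullback.fst u η[H]) := by
      have : Mono η[H] := ⟨fun a b _ => toUnit_unique a b⟩
      infer_instance
    have hk : pullback.fst u η[H] ≫ u = 1 := by
      rw [pullback.condition, MonObj.one_eq_one, MonObj.comp_one]
    refine AlgGrpLib.isKernel_of_points _ p ?_ fun T g hg => ?_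
    · rw [← cancel_mono i, Category.assoc, hpi, hk, MonObj.one_comp]
    · exact ⟨pullback.lift g (toUnit T) (by
        rw [← hpi, reassoc_of% hg, MonObj.one_comp, MonObj.one_eq_one, MonObj.comp_one]), pullback.lift_fst _ _ _⟩

end Groth.Agent.GrpQLib
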