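import Groth.Agent.GrpQLib.FlatKernel
import Groth.Agent.AlgGrpLib.ActionShear
import Groth.Agent.FlatLocal.Descent
import Groth.Agent.FlatMorThick.Topological

/-! The image of the graph of an action. -/

universe u

set_option autoImplicit false
set_option backward.isDefEq.respectTransparency.types false
set_option maxHeartbeats 800000

open CategoryTheory CategoryTheory.Limits MonoidalCategory CartesianMonoidalCategory MonObj GrpObj AlgebraicGeometry
open Groth.Agent.AlgGrpLib

namespace Groth.Agent.GrpQLib

variable {S : Scheme.{u}} {G X : Over S} [GrpObj G] (a : AlgGrp.Action G X)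

theorem eq_comp {T : Over S} (w : T ⟶ G ⊗ X) :
    w ≫ a.act = lift (w ≫ fst G X) (w ≫ snd G X) ≫ a.act := by
  rw [← comp_lift, lift_fst_snd, Category.comp_id]

theorem inv_mul_act {T : Over S} (g g' : T ⟶ G) (x : T ⟶ X)
    (h : lift g x ≫ a.act = lift g' x ≫ a.act) : lift (g⁻¹ * g') x ≫ a.act = x := by
  rw [← act_act, ← h, act_act, inv_mul_cancel, one_act']

/-- the graph `(g,x) ↦ (gx,x)` -/
noncomputable abbrev graph : G ⊗ X ⟶ X ⊗ X := lift a.act (snd G X)

/-- the stabilizer projection -/
noncomputable abbrev stabProj : pullback (graph a) (lift (𝟙 X) (𝟙 X)) ⟶ X :=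
  pullback.snd (graph a) (lift (𝟙 X) (𝟙 X))

theorem stab_snd : pullback.fst (graph a) (lift (𝟙 X) (𝟙 X)) ≫ snd G X = stabProj a := by
  have := congrArg (· ≫ snd X X) (pullback.condition (f := graph a) (g := lift (𝟙 X) (𝟙 X)))
  simp only [Category.assoc, lift_snd, Category.comp_id] at this
  exact this

theorem stab_act : pullback.fst (graph a) (lift (𝟙 X) (𝟙 X)) ≫ a.act = stabProj a := by
  have := congrArg (· ≫ fst X X) (pullback.condition (f := graph a) (g := lift (𝟙 X) (𝟙 X)))
  simp only [Category.assoc, lift_fst, Category.comp_id] at this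
  exact this

noncomputable abbrev tr : pullback (snd G X) (stabProj a) ⟶ G ⊗ X :=
  lift ((pullback.fst (snd G X) (stabProj a) ≫ fst G X) *
      (pullback.snd (snd G X) (stabProj a) ≫ pullback.fst (graph a) _ ≫ fst G X))
    (pullback.fst (snd G X) (stabProj a) ≫ snd G X)

theorem isPullback_graph : IsPullback (pullback.fst (snd G X) (stabProj a)) (tr a) (graph a) (graph a) := by
  have hw : CommSq (pullback.fst (snd G X) (stabProj a)) (tr a) (graph a) (graph a) := by
    refine ⟨CartesianMonoidalCategory.hom_ext _ _ ?_ ?_⟩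
    · rw [Category.assoc, Category.assoc, lift_fst]
      have h1 := congrArg (pullback.snd (snd G X) (stabProj a) ≫ ·) (stab_act a)
      rw [eq_comp a (pullback.fst _ _)] at h1
      have hc : pullback.snd (snd G X) (stabProj a) ≫ stabProj a = pullback.fst _ _ ≫ snd G X :=
        (pullback.condition (f := snd G X) (g := stabProj a)).symm
      simp only [← Category.assoc, comp_lift] at h1
      simp only [Category.assoc, hc, stab_snd] at h1
      rw [eq_comp a (tr a), lift_fst, lift_snd, ← act_act, h1]
      exact eq_comp a _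
    · rw [Category.assoc, Category.assoc, lift_snd, lift_snd]
  have hx : ∀ s : PullbackCone (graph a) (graph a), s.fst ≫ snd G X = s.snd ≫ snd G X ∧
      lift (s.fst ≫ fst G X) (s.fst ≫ snd G X) ≫ a.act = lift (s.snd ≫ fst G X) (s.fst ≫ snd G X) ≫ a.act := fun s => by
    have h1 := congrArg (· ≫ fst X X) s.condition
    have h2 := congrArg (· ≫ snd X X) s.condition
    simp only [Category.assoc, lift_fst, lift_snd] at h1 h2
    refine ⟨h2, ?_⟩
    rw [← eq_comp, h2, ← eq_comp, h1]
  let w : ∀ s : PullbackCone (graph a) (graph a), s.pt ⟶ pullback (graph a) (lift (𝟙 X) (𝟙 X)) := fun s =>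
    pullback.lift (lift ((s.fst ≫ fst G X)⁻¹ * (s.snd ≫ fst G X)) (s.fst ≫ snd G X)) (s.fst ≫ snd G X) (by
      refine CartesianMonoidalCategory.hom_ext _ _ ?_ ?_
      · rw [Category.assoc, Category.assoc, lift_fst, lift_fst, Category.comp_id]
        exact inv_mul_act a _ _ _ (hx s).2
      · rw [Category.assoc, Category.assoc, lift_snd, lift_snd, lift_snd]; exact (Category.comp_id _).symm)
  have hw' : ∀ s, s.fst ≫ snd G X = w s ≫ stabProj a := fun s => (pullback.lift_snd _ _ _).symm
  refine IsPullback.of_isLimit' hw (PullbackCone.IsLimit.mk _ (fun s => pullback.lift s.fst (w s) (hw' s))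
    (fun s => pullback.lift_fst _ _ _) (fun s => ?_) (fun s m h1 h2 => ?_))
  · refine CartesianMonoidalCategory.hom_ext _ _ ?_ ?_
    · rw [Category.assoc, lift_fst, MonObj.comp_mul, pullback.lift_fst_assoc, pullback.lift_snd_assoc,
        pullback.lift_fst_assoc, lift_fst, mul_inv_cancel_left]
    · rw [Category.assoc, lift_snd, pullback.lift_fst_assoc]; exact (hx s).1
  · refine pullback.hom_ext (h1.trans (pullback.lift_fst _ _ _).symm) ?_
    rw [pullback.lift_snd]
    refine pullback.hom_ext ?_ ?_
    · rw [pullback.lift_fst]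
      refine CartesianMonoidalCategory.hom_ext _ _ ?_ ?_
      · rw [lift_fst]
        have h3 := congrArg (· ≫ fst G X) h2
        simp only [Category.assoc, lift_fst, MonObj.comp_mul] at h3
        rw [reassoc_of% h1] at h3
        rw [← h3, inv_mul_cancel_left, Category.assoc, Category.assoc]
      · rw [lift_snd, Category.assoc, Category.assoc, stab_snd, ← pullback.condition, reassoc_of% h1]
    · rw [pullback.lift_snd, Category.assoc, ← pullback.condition, reassoc_of% h1]

theorem flat_fst_iff [Flat G.hom] :
    Flat (pullback.fst (graph a).left (graph a).left) ↔ Flat (stabProj a).left := by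
  have sq := (isPullback_graph a).map (Over.forget S)
  constructor
  · intro h
    have h' : Flat (pullback.fst (snd G X) (stabProj a)).left := by
      refine (congrArg (fun z => Flat z) sq.isoPullback_hom_fst).mp ?_
      exact (MorphismProperty.cancel_left_of_respectsIso @Flat sq.isoPullback.hom _).2 h
    have sq₂ := (IsPullback.of_hasPullback (snd G X) (stabProj a)).flip
    let e : X ⟶ G ⊗ X := lift (1 : X ⟶ G) (𝟙 X)
    have he : e ≫ snd G X = 𝟙 X := lift_snd _ _
    let r : pullback (graph a) (lift (𝟙 X) (𝟙 X)) ⟶ pullback (snd G X) (stabProj a) :=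
      pullback.lift (stabProj a ≫ e) (𝟙 _) (by rw [Category.assoc, he, Category.comp_id, Category.id_comp])
    have sq₃ : IsPullback r (stabProj a) (pullback.fst (snd G X) (stabProj a)) e := by
      refine IsPullback.of_right ?_ (pullback.lift_fst _ _ _) sq₂
      rw [pullback.lift_snd, he]
      exact IsPullback.id_horiz _
    exact MorphismProperty.of_isPullback (P := @Flat) (sq₃.map (Over.forget S)) h'
  · intro h
    have h' : Flat (pullback.fst (snd G X) (stabProj a)).left :=
      MorphismProperty.of_isPullback (P := @Flat)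
        (((IsPullback.of_hasPullback (snd G X) (stabProj a)).flip).map (Over.forget S)) h
    refine (MorphismProperty.cancel_left_of_respectsIso @Flat sq.isoPullback.hom _).1 ?_
    exact (congrArg (fun z => Flat z) sq.isoPullback_hom_fst).mpr h'

theorem image_proj_props [IsNoetherian S] [Flat G.hom] [LocallyOfFiniteType G.hom] [QuasiCompact G.hom]
    [LocallyOfFiniteType X.hom] [QuasiCompact X.hom] {Y : Over S} (ψ : G ⊗ X ⟶ Y) [Surjective ψ.left]
    [Flat ψ.left] [LocallyOfFinitePresentation ψ.left] (p : Y ⟶ X) (q : G ⊗ X ⟶ X) (hq : ψ ≫ p = q)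
    [Surjective q.left] [Flat q.left] [LocallyOfFinitePresentation q.left] [QuasiCompact q.left] :
    Surjective p.left ∧ Flat p.left ∧ LocallyOfFinitePresentation p.left ∧ QuasiCompact p.left ∧
      QuasiSeparated p.left := by
  have e : ψ.left ≫ p.left = q.left := congrArg (fun z => z.left) hq
  have : IsLocallyNoetherian X.left := LocallyOfFiniteType.isLocallyNoetherian X.hom
  have : Surjective (ψ.left ≫ p.left) := e ▸ ‹_›
  have : Flat (ψ.left ≫ p.left) := e ▸ ‹_›
  have : QuasiCompact (ψ.left ≫ p.left) := e ▸ ‹_›
  have hl : LocallyOfFinitePresentation p.left := AlgSpLib.lfp_of_comp_fppf ψ.left p.left (e ▸ ‹_›)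
  have : IsLocallyNoetherian Y.left := LocallyOfFiniteType.isLocallyNoetherian p.left
  exact ⟨Surjective.of_comp ψ.left p.left, FlatLocal.flat_of_comp ψ.left p.left, hl,
    FlatMorThick.quasiCompact_of_comp_surjective ψ.left p.left, inferInstance⟩

end Groth.Agent.GrpQLib
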