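import Groth.Agent.GrpQLib.ThickQuot
import Groth.Agent.AlgGrpLib.SubgroupCalc

/-! The quotient of a group by a subgroup containing the reduction. -/

universe u

set_option autoImplicit false
set_option backward.isDefEq.respectTransparency.types false
set_option maxHeartbeats 800000

open CategoryTheory CategoryTheory.Limits MonoidalCategory CartesianMonoidalCategory MonObj GrpObj AlgebraicGeometry

namespace Groth.Agent.GrpQLib

variable {S : Scheme.{u}} {G H : Over S}

/-- Over-morphism of a scheme-level point. -/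
abbrev ov {T : Scheme.{u}} {A : Over S} (α : T ⟶ A.left) {B : Over S} (β : T ⟶ B.left)
    (h : β ≫ B.hom = α ≫ A.hom) : Over.mk (α ≫ A.hom) ⟶ B :=
  Over.homMk β h

variable [GrpObj G] [GrpObj H] (j : H ⟶ G) [IsMonHom j]

/-- `(g, h) ↦ g · j h`. -/
noncomputable abbrev rightAct : G ⊗ H ⟶ G := fst G H * (snd G H ≫ j)

theorem hom_ext_GH {T : Over S} {a b : T ⟶ G ⊗ H} (h1 : a ≫ fst G H = b ≫ fst G H)
    (h2 : a ≫ snd G H = b ≫ snd G H) : a = b :=
  CartesianMonoidalCategory.hom_ext _ _ h1 h2

theorem comp_rightAct {T : Over S} (a : T ⟶ G ⊗ H) :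
    a ≫ rightAct j = (a ≫ fst G H) * ((a ≫ snd G H) ≫ j) := by
  rw [MonObj.comp_mul, Category.assoc]

/-- the underlying scheme map of composition -/
noncomputable abbrev compPair : pullback (fst G H).left (rightAct j).left ⟶ (G ⊗ H).left :=
  let P : Over S := Over.mk (pullback.fst (fst G H).left (rightAct j).left ≫ (G ⊗ H).hom)
  let b : P ⟶ G ⊗ H := Over.homMk (pullback.snd (fst G H).left (rightAct j).left) (by
    show pullback.snd _ _ ≫ (G ⊗ H).hom = pullback.fst _ _ ≫ (G ⊗ H).hom
    refine (congrArg (pullback.snd _ _ ≫ ·) (Over.w (rightAct j)).symm).trans ?_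
    refine ((pullback.condition_assoc _).symm).trans ?_
    rw [Over.w (fst G H)])
  let a : P ⟶ G ⊗ H := Over.homMk (pullback.fst (fst G H).left (rightAct j).left) rfl
  (lift (b ≫ fst G H) ((b ≫ snd G H) * (a ≫ snd G H))).left

theorem lift_compPair {T : Over S} (a b : T ⟶ G ⊗ H) (h : a ≫ fst G H = b ≫ rightAct j) :
    pullback.lift a.left b.left (congrArg CommaMorphism.left h) ≫ compPair j =
      (lift (b ≫ fst G H) ((b ≫ snd G H) * (a ≫ snd G H))).left := by
  let P : Over S := Over.mk (pullback.fst (fst G H).left (rightAct j).left ≫ (G ⊗ H).hom)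
  let b' : P ⟶ G ⊗ H := Over.homMk (pullback.snd (fst G H).left (rightAct j).left) (by
    show pullback.snd _ _ ≫ (G ⊗ H).hom = pullback.fst _ _ ≫ (G ⊗ H).hom
    refine (congrArg (pullback.snd _ _ ≫ ·) (Over.w (rightAct j)).symm).trans ?_
    refine ((pullback.condition_assoc _).symm).trans ?_
    rw [Over.w (fst G H)])
  let a' : P ⟶ G ⊗ H := Over.homMk (pullback.fst (fst G H).left (rightAct j).left) rfl
  let l : T ⟶ P := Over.homMk (pullback.lift a.left b.left (congrArg CommaMorphism.left h)) (by
    show pullback.lift _ _ _ ≫ pullback.fst _ _ ≫ (G ⊗ H).hom = T.hom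
    rw [pullback.lift_fst_assoc, Over.w a])
  have ha : l ≫ a' = a := Over.OverMorphism.ext (pullback.lift_fst _ _ _)
  have hb : l ≫ b' = b := Over.OverMorphism.ext (pullback.lift_snd _ _ _)
  show (l ≫ lift (b' ≫ fst G H) ((b' ≫ snd G H) * (a' ≫ snd G H))).left = _
  simp only [comp_lift, MonObj.comp_mul, ← Category.assoc, hb, ha]

theorem exists_over {T : Scheme.{u}} (α β : T ⟶ (G ⊗ H).left) (h : α ≫ (fst G H).left = β ≫ (rightAct j).left) :
    ∃ (T' : Over S) (e : T'.left = T) (a b : T' ⟶ G ⊗ H),
      a.left = eqToHom e ≫ α ∧ b.left = eqToHom e ≫ β :=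
  ⟨Over.mk (α ≫ (G ⊗ H).hom), rfl, Over.homMk α rfl, Over.homMk β (by
    show β ≫ (G ⊗ H).hom = α ≫ (G ⊗ H).hom
    refine (congrArg (β ≫ ·) (Over.w (rightAct j)).symm).trans ?_
    rw [← Category.assoc, ← h, Category.assoc, Over.w (fst G H)]),
    (Category.id_comp _).symm, (Category.id_comp _).symm⟩

/-- The groupoid of the right action of a subgroup. -/
noncomputable def subgroupGrpd : Grpd.GroupoidScheme S where
  U := G.left
  R := (G ⊗ H).left
  pU := G.hom
  pR := (G ⊗ H).hom
  s := (fst G H).left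
  t := (rightAct j).left
  e := (lift (𝟙 G) 1).left
  i := (lift (rightAct j) (snd G H)⁻¹).left
  c := compPair j
  s_over := Over.w _
  t_over := Over.w _
  comp_s := fun α β h => by
    obtain ⟨T, rfl, a, b, ha, hb⟩ := exists_over j α β h
    simp only [eqToHom_refl, Category.id_comp] at ha hb
    subst ha hb
    rw [lift_compPair j a b (Over.OverMorphism.ext h)]
    exact congrArg CommaMorphism.left (lift_fst (b ≫ fst G H) _)
  comp_t := fun α β h => by
    obtain ⟨T, rfl, a, b, ha, hb⟩ := exists_over j α β h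
    simp only [eqToHom_refl, Category.id_comp] at ha hb
    subst ha hb
    have h' : a ≫ fst G H = b ≫ rightAct j := Over.OverMorphism.ext h
    rw [lift_compPair j a b h']
    refine congrArg CommaMorphism.left (?_ : lift (b ≫ fst G H) _ ≫ rightAct j = a ≫ rightAct j)
    rw [comp_rightAct, comp_rightAct, lift_fst, lift_snd, MonObj.mul_comp, h', comp_rightAct, _root_.mul_assoc]
  assoc := fun α β ζ h₁ h₂ => by
    obtain ⟨T, rfl, a, b, ha, hb⟩ := exists_over j α β h₁
    simp only [eqToHom_refl, Category.id_comp] at ha hb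
    subst ha hb
    have hζ : ζ ≫ (G ⊗ H).hom = T.hom := by
      refine (congrArg (ζ ≫ ·) (Over.w (rightAct j)).symm).trans ?_
      rw [← Category.assoc, ← h₂, Category.assoc, Over.w (fst G H), Over.w b]
    let c : T ⟶ G ⊗ H := Over.homMk ζ hζ
    have h1' : a ≫ fst G H = b ≫ rightAct j := Over.OverMorphism.ext h₁
    have h2' : b ≫ fst G H = c ≫ rightAct j := Over.OverMorphism.ext h₂
    have e1 := lift_compPair j a b h1'
    have e2 := lift_compPair j b c h2'
    simp only [e1, show ζ = c.left from rfl, e2]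
    have h12 : lift (b ≫ fst G H) ((b ≫ snd G H) * (a ≫ snd G H)) ≫ fst G H = c ≫ rightAct j := by
      rw [lift_fst, h2']
    have h21 : a ≫ fst G H = lift (c ≫ fst G H) ((c ≫ snd G H) * (b ≫ snd G H)) ≫ rightAct j := by
      rw [h1', comp_rightAct, comp_rightAct, lift_fst, lift_snd, MonObj.mul_comp, h2', comp_rightAct, _root_.mul_assoc]
    rw [lift_compPair j _ c h12, lift_compPair j a _ h21]
    congr 1
    refine hom_ext_GH (by simp) ?_
    simp only [lift_snd]
    rw [_root_.mul_assoc]
  e_s := congrArg CommaMorphism.left (lift_fst (𝟙 G) (1 : G ⟶ H))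
  e_t := congrArg CommaMorphism.left (show lift (𝟙 G) (1 : G ⟶ H) ≫ rightAct j = 𝟙 G by
    rw [comp_rightAct, lift_fst, lift_snd, MonObj.one_comp, _root_.mul_one])
  comp_e := fun α => by
    let T := Over.mk (α ≫ (G ⊗ H).hom)
    let a : T ⟶ G ⊗ H := Over.homMk α rfl
    have h : a ≫ fst G H = ((a ≫ fst G H) ≫ lift (𝟙 G) 1) ≫ rightAct j := by
      rw [Category.assoc _ (lift (𝟙 G) 1), comp_rightAct j, lift_fst, lift_snd, MonObj.one_comp,
        _root_.mul_one, Category.comp_id]
    refine (lift_compPair j a ((a ≫ fst G H) ≫ lift (𝟙 G) 1) h).trans ?_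
    show _ = a.left
    congr 1
    refine hom_ext_GH ?_ ?_
    · simp
    · rw [lift_snd, Category.assoc (a ≫ fst G H), lift_snd, MonObj.comp_one, _root_.one_mul]
  e_comp := fun α => by
    let T := Over.mk (α ≫ (G ⊗ H).hom)
    let a : T ⟶ G ⊗ H := Over.homMk α rfl
    have h : ((a ≫ rightAct j) ≫ lift (𝟙 G) 1) ≫ fst G H = a ≫ rightAct j := by
      rw [Category.assoc, lift_fst, Category.comp_id]
    refine (lift_compPair j ((a ≫ rightAct j) ≫ lift (𝟙 G) 1) a h).trans ?_
    show _ = a.left
    congr 1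
    refine hom_ext_GH (by simp) ?_
    rw [lift_snd, Category.assoc (a ≫ rightAct j), lift_snd, MonObj.comp_one, _root_.mul_one]
  i_s := congrArg CommaMorphism.left (lift_fst (rightAct j) (snd G H)⁻¹)
  i_t := congrArg CommaMorphism.left (show lift (rightAct j) (snd G H)⁻¹ ≫ rightAct j = fst G H by
    rw [comp_rightAct, lift_fst, lift_snd, GrpObj.inv_comp, mul_inv_cancel_right])
  comp_i := fun α => by
    let T := Over.mk (α ≫ (G ⊗ H).hom)
    let a : T ⟶ G ⊗ H := Over.homMk α rfl
    have h : a ≫ fst G H = (a ≫ lift (rightAct j) (snd G H)⁻¹) ≫ rightAct j := by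
      rw [comp_rightAct j (a ≫ lift _ _), Category.assoc a, lift_fst, Category.assoc a, lift_snd,
        GrpObj.comp_inv, GrpObj.inv_comp, comp_rightAct, mul_inv_cancel_right]
    refine (lift_compPair j a (a ≫ lift (rightAct j) (snd G H)⁻¹) h).trans ?_
    show _ = (a ≫ rightAct j ≫ lift (𝟙 G) 1).left
    congr 1
    refine hom_ext_GH (by simp) ?_
    simp [GrpObj.comp_inv, MonObj.comp_one]
  i_comp := fun α => by
    let T := Over.mk (α ≫ (G ⊗ H).hom)
    let a : T ⟶ G ⊗ H := Over.homMk α rfl
    have h : (a ≫ lift (rightAct j) (snd G H)⁻¹) ≫ fst G H = a ≫ rightAct j := by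
      rw [Category.assoc, lift_fst]
    refine (lift_compPair j (a ≫ lift (rightAct j) (snd G H)⁻¹) a h).trans ?_
    show _ = (a ≫ fst G H ≫ lift (𝟙 G) 1).left
    congr 1
    refine hom_ext_GH (by simp) ?_
    simp [GrpObj.comp_inv, MonObj.comp_one]

/-- A subgroup with the same points has an fppf quotient. -/
theorem exists_quotient_subgroup_thickening [IsClosedImmersion j.left] [Surjective j.left]
    [Surjective H.hom] [Flat H.hom] [LocallyOfFinitePresentation H.hom] [LocallyOfFinitePresentation G.hom] :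
    ∃ (Y : Scheme.{u}) (p : G.left ⟶ Y), Surjective p ∧ Flat p ∧ LocallyOfFinitePresentation p ∧
      IsPullback (rightAct j).left (fst G H).left p p := by
  let Γg := subgroupGrpd j
  haveI : Mono j := Over.mono_of_mono_left _
  have sqs : IsPullback (lift (fst H H ≫ j) (snd H H)) (fst H H) (fst G H) j :=
    IsPullback.of_isLimit' ⟨lift_fst _ _⟩ (PullbackCone.IsLimit.mk _
      (fun c => lift c.snd (c.fst ≫ snd G H))
      (fun c => by
        refine hom_ext_GH ?_ ?_
        · rw [Category.assoc, lift_fst, lift_fst_assoc, c.condition]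
        · simp)
      (fun c => lift_fst _ _)
      (fun c m h1 h2 => by
        refine CartesianMonoidalCategory.hom_ext _ _ (by rw [lift_fst]; exact h2) ?_
        rw [lift_snd, ← h1, Category.assoc, lift_snd]))
  have sqt : IsPullback (lift (fst H H ≫ j) (snd H H)) (fst H H * snd H H) (rightAct j) j :=
    IsPullback.of_isLimit' ⟨by rw [comp_rightAct, lift_fst, lift_snd, MonObj.mul_comp]⟩ (PullbackCone.IsLimit.mk _
      (fun c => lift (c.snd * (c.fst ≫ snd G H)⁻¹) (c.fst ≫ snd G H))
      (fun c => by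
        refine hom_ext_GH ?_ ?_
        · rw [Category.assoc, lift_fst, lift_fst_assoc, MonObj.mul_comp, GrpObj.inv_comp, ← c.condition,
            comp_rightAct, mul_inv_cancel_right]
        · simp)
      (fun c => by rw [MonObj.comp_mul, lift_fst, lift_snd, inv_mul_cancel_right])
      (fun c m h1 h2 => by
        have hs : m ≫ snd H H = c.fst ≫ snd G H := by rw [← h1, Category.assoc, lift_snd]
        refine CartesianMonoidalCategory.hom_ext _ _ ?_ (by rw [lift_snd]; exact hs)
        rw [lift_fst, ← h2, MonObj.comp_mul, hs, mul_inv_cancel_right]))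
  have hs' : IsPullback (lift (fst H H ≫ j) (snd H H)).left (fst H H).left Γg.s j.left := sqs.map (Over.forget S)
  have ht' : IsPullback (lift (fst H H ≫ j) (snd H H)).left (fst H H * snd H H).left Γg.t j.left :=
    sqt.map (Over.forget S)
  let ψ : pullback Γg.s j.left ≅ pullback Γg.t j.left := hs'.isoPullback.symm ≪≫ ht'.isoPullback
  have hψ : ψ.hom ≫ pullback.fst Γg.t j.left = pullback.fst Γg.s j.left :=
    (Category.assoc _ _ _).trans ((congrArg (hs'.isoPullback.inv ≫ ·) ht'.isoPullback_hom_fst).trans hs'.isoPullback_inv_fst)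
  haveI : Mono Γg.j := ⟨fun {T} x y e => by
    have e1 : x ≫ (rightAct j).left = y ≫ (rightAct j).left := by
      have e' := congrArg (· ≫ pullback.fst Γg.pU Γg.pU) e
      simp only [Category.assoc, Grpd.GroupoidScheme.j, pullback.lift_fst] at e'
      exact e'
    have e2 : x ≫ (fst G H).left = y ≫ (fst G H).left := by
      have e' := congrArg (· ≫ pullback.snd Γg.pU Γg.pU) e
      simp only [Category.assoc, Grpd.GroupoidScheme.j, pullback.lift_snd] at e'
      exact e'
    let T' : Over S := Over.mk (x ≫ (G ⊗ H).hom)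
    let x' : T' ⟶ G ⊗ H := Over.homMk x rfl
    let y' : T' ⟶ G ⊗ H := Over.homMk y (by
      show y ≫ (G ⊗ H).hom = x ≫ (G ⊗ H).hom
      refine (congrArg (y ≫ ·) (Over.w (fst G H)).symm).trans ?_
      refine (Category.assoc _ _ _).symm.trans ((congrArg (· ≫ G.hom) e2.symm).trans ?_)
      exact (Category.assoc _ _ _).trans (congrArg (x ≫ ·) (Over.w (fst G H))))
    have f1 : x' ≫ rightAct j = y' ≫ rightAct j := Over.OverMorphism.ext e1
    have f2 : x' ≫ fst G H = y' ≫ fst G H := Over.OverMorphism.ext e2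
    rw [comp_rightAct, comp_rightAct, f2, mul_right_inj, cancel_mono] at f1
    exact congrArg CommaMorphism.left (hom_ext_GH f2 f1)⟩
  haveI : Surjective Γg.s := MorphismProperty.pullback_fst _ _ ‹Surjective H.hom›
  haveI : Flat Γg.s := MorphismProperty.pullback_fst _ _ ‹Flat H.hom›
  haveI : LocallyOfFinitePresentation Γg.s := MorphismProperty.pullback_fst _ _ ‹LocallyOfFinitePresentation H.hom›
  haveI : LocallyOfFinitePresentation Γg.t := by
    have hj : IsIso (lift (rightAct j) (snd G H)⁻¹) :=
      ⟨lift (rightAct j) (snd G H)⁻¹,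
        hom_ext_GH (by rw [Category.assoc, lift_fst, comp_rightAct, lift_fst, lift_snd, GrpObj.inv_comp,
            mul_inv_cancel_right, Category.id_comp])
          (by rw [Category.assoc, lift_snd, GrpObj.comp_inv, lift_snd, _root_.inv_inv, Category.id_comp]),
        hom_ext_GH (by rw [Category.assoc, lift_fst, comp_rightAct, lift_fst, lift_snd, GrpObj.inv_comp,
            mul_inv_cancel_right, Category.id_comp])
          (by rw [Category.assoc, lift_snd, GrpObj.comp_inv, lift_snd, _root_.inv_inv, Category.id_comp])⟩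
    haveI : IsIso Γg.i := inferInstanceAs (IsIso ((Over.forget S).map (lift (rightAct j) (snd G H)⁻¹)))
    rw [← Γg.i_s]
    exact MorphismProperty.comp_mem _ _ _ inferInstance ‹_›
  have sqH : IsPullback (fst H H * snd H H) (fst H H) (toUnit H) (toUnit H) :=
    IsPullback.of_isLimit' ⟨toUnit_unique _ _⟩ (PullbackCone.IsLimit.mk _
      (fun c => lift c.snd (c.snd⁻¹ * c.fst))
      (fun c => by rw [MonObj.comp_mul, lift_fst, lift_snd, mul_inv_cancel_left])
      (fun c => lift_fst _ _)
      (fun c m h1 h2 => by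
        refine CartesianMonoidalCategory.hom_ext _ _ (by rw [lift_fst]; exact h2) ?_
        rw [lift_snd, ← h1, ← h2, MonObj.comp_mul, inv_mul_cancel_left]))
  have sq₀ : IsPullback (ψ.hom ≫ pullback.snd Γg.t j.left) (pullback.snd Γg.s j.left) H.hom H.hom := by
    refine (sqH.map (Over.forget S)).of_iso hs'.isoPullback (Iso.refl _) (Iso.refl _) (Iso.refl _) ?_ ?_ ?_ ?_
    · refine Eq.trans ?_ ((congrArg (hs'.isoPullback.hom ≫ ·) (Category.assoc _ _ _)).symm)
      refine Eq.trans (Category.comp_id _) ?_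
      refine Eq.trans ?_ (hs'.isoPullback.hom_inv_id_assoc _).symm
      exact ht'.isoPullback_hom_snd.symm
    · exact (Category.comp_id _).trans hs'.isoPullback_hom_snd.symm
    · exact (Category.comp_id _).trans (Category.id_comp _).symm
    · exact (Category.comp_id _).trans (Category.id_comp _).symm
  exact exists_quotient_of_thickening Γg j.left ⟨‹_›, ‹_›⟩ ψ hψ H.hom sq₀

end Groth.Agent.GrpQLib
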