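import Groth.Agent.HopfLib.Chevalley
import Groth.Agent.HopfQuot.Basic
import Groth.Agent.HopfLib.FaithfullyFlat
import Groth.Agent.GrassLib.Functor

/-! The Grassmannian point attached to a Chevalley matrix: its stabiliser is the subgroup. -/

universe u

set_option autoImplicit false
set_option backward.isDefEq.respectTransparency.types false
set_option maxHeartbeats 800000

open TensorProduct WithConv Groth.Agent.HopfQuot Groth.Agent.GrassLib Matrix

namespace Groth.Agent.GrpQLib

variable {k : Type u} [Field k] {A B : Type u} [CommRing A] [HopfAlgebra k A] [CommRing B] [HopfAlgebra k B]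

variable (k A) in
/-- A matrix of functions on the group which is multiplicative, with a corner vanishing on the subgroup
and cutting it out. -/
structure ChevData (π : A →ₐc[k] B) (d e : ℕ) where
  a : Fin d ⊕ Fin e → Fin d ⊕ Fin e → A
  counit_a : ∀ s t, CoalgebraStruct.counit (R := k) (a s t) = if s = t then 1 else 0
  comul_a : ∀ s t, CoalgebraStruct.comul (R := k) (a s t) = ∑ l, a s l ⊗ₜ[k] a l t
  corner : ∀ (j : Fin e) (i : Fin d), π (a (Sum.inr j) (Sum.inl i)) = 0
  cut : ∀ (R : Type u) [CommRing R] [Algebra k R] (g : A →ₐ[k] R),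
    (∀ (j : Fin e) (i : Fin d), g (a (Sum.inr j) (Sum.inl i)) = 0) → ∀ y ∈ RingHom.ker (π : A →+* B), g y = 0

variable {π : A →ₐc[k] B} {d e : ℕ} (D : ChevData k A π d e)
  {R R' : Type u} [CommRing R] [Algebra k R] [CommRing R'] [Algebra k R']

def ChevData.M (g : Pt k A R) : Matrix (Fin d ⊕ Fin e) (Fin d ⊕ Fin e) R :=
  Matrix.of fun s t => g.ofConv (D.a s t)

theorem ChevData.M_mul (g h : Pt k A R) : D.M (g * h) = D.M g * D.M h := by
  ext s t
  simp only [ChevData.M, Matrix.of_apply, Matrix.mul_apply, HopfQuot.mul_apply, D.comul_a, map_sum]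
  exact Finset.sum_congr rfl fun l _ => Algebra.TensorProduct.lift_tmul _ _ _ _ _

theorem ChevData.M_one : D.M (1 : Pt k A R) = 1 := by
  ext s t
  simp only [ChevData.M, Matrix.of_apply, HopfQuot.one_apply, D.counit_a, Matrix.one_apply]
  split <;> simp

theorem ChevData.M_mul_inv (g : Pt k A R) : D.M g * D.M g⁻¹ = 1 := by
  rw [← D.M_mul, mul_inv_cancel, D.M_one]

theorem ChevData.M_inv_mul (g : Pt k A R) : D.M g⁻¹ * D.M g = 1 := by
  rw [← D.M_mul, inv_mul_cancel, D.M_one]

theorem ChevData.M_push (φ : R →ₐ[k] R') (g : Pt k A R) : D.M (push φ g) = (D.M g).map φ := rfl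

/-- Reindexing. -/
noncomputable def reidx (R : Type u) [CommRing R] (d e : ℕ) :
    (Fin (d + e) → R) ≃ₗ[R] (Fin d ⊕ Fin e → R) :=
  LinearEquiv.funCongrLeft R R finSumFinEquiv

theorem reidx_apply (y : Fin (d + e) → R) (s : Fin d ⊕ Fin e) : reidx R d e y s = y (finSumFinEquiv s) := rfl

/-- The projection whose kernel is `g U`. -/
noncomputable def ChevData.L (g : Pt k A R) : (Fin (d + e) → R) →ₗ[R] (Fin e → R) :=
  LinearMap.funLeft R R Sum.inr ∘ₗ (D.M g⁻¹).mulVecLin ∘ₗ (reidx R d e).toLinearMap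

theorem ChevData.L_apply (g : Pt k A R) (y : Fin (d + e) → R) (j : Fin e) :
    D.L g y j = ((D.M g⁻¹) *ᵥ reidx R d e y) (Sum.inr j) := rfl

theorem ChevData.L_surjective (g : Pt k A R) : Function.Surjective (D.L g) := fun z => by
  refine ⟨(reidx R d e).symm (D.M g *ᵥ Sum.elim 0 z), funext fun j => ?_⟩
  rw [D.L_apply, LinearEquiv.apply_symm_apply, Matrix.mulVec_mulVec, D.M_inv_mul, Matrix.one_mulVec]
  rfl

theorem ChevData.ker_L_le_iff (g h : Pt k A R) :
    LinearMap.ker (D.L g) ≤ LinearMap.ker (D.L h) ↔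
      ∀ (j : Fin e) (i : Fin d), (h⁻¹ * g).ofConv (D.a (Sum.inr j) (Sum.inl i)) = 0 := by
  constructor
  · intro hle j i
    let y := (reidx R d e).symm (D.M g *ᵥ Pi.single (Sum.inl i) 1)
    have hy : y ∈ LinearMap.ker (D.L g) := by
      refine LinearMap.mem_ker.2 (funext fun j' => ?_)
      rw [D.L_apply, LinearEquiv.apply_symm_apply, Matrix.mulVec_mulVec, D.M_inv_mul, Matrix.one_mulVec]
      simp
    have h1 := congrFun (LinearMap.mem_ker.1 (hle hy)) j
    rw [D.L_apply, LinearEquiv.apply_symm_apply, Matrix.mulVec_mulVec, ← D.M_mul,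
      Matrix.mulVec_single_one] at h1
    exact h1
  · intro h0 y hy
    refine LinearMap.mem_ker.2 (funext fun j => ?_)
    have e1 : D.M h⁻¹ *ᵥ reidx R d e y = D.M (h⁻¹ * g) *ᵥ (D.M g⁻¹ *ᵥ reidx R d e y) := by
      rw [Matrix.mulVec_mulVec, ← D.M_mul, mul_assoc, mul_inv_cancel, mul_one]
    rw [D.L_apply, e1]
    rw [Matrix.mulVec, dotProduct, Fintype.sum_sum_type]
    have h2 : ∀ j', (D.M g⁻¹ *ᵥ reidx R d e y) (Sum.inr j') = 0 := fun j' => congrFun (LinearMap.mem_ker.1 hy) j'
    simp only [h2]
    simp [ChevData.M, h0]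

/-- `g U`, as a point of the Grassmannian. -/
noncomputable def ChevData.grass (g : Pt k A R) :
    Module.Grassmannian R (R ⊗[k] (Fin (d + e) → k)) e :=
  let f := D.L g ∘ₗ (kappa (R := k) R (d + e)).toLinearMap
  have hf : Function.Surjective f := (D.L_surjective g).comp (kappa (R := k) R (d + e)).surjective
  let eq := f.quotKerEquivOfSurjective hf
  { toSubmodule := LinearMap.ker f
    finite_quotient := Module.Finite.equiv eq.symm
    projective_quotient := Module.Projective.of_equiv eq.symm
    rankAtStalk_eq := fun p => by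
      haveI : Nontrivial R := ⟨⟨0, 1, fun h => p.2.ne_top (Ideal.eq_top_iff_one _ |>.2 (h ▸ p.1.zero_mem))⟩⟩
      rw [Module.rankAtStalk_eq_of_equiv eq, Module.rankAtStalk_eq_finrank_of_free]
      simp }

theorem ChevData.map_kappa_grass (g : Pt k A R) :
    (D.grass g).toSubmodule.map (kappa (R := k) R (d + e)).toLinearMap = LinearMap.ker (D.L g) := by
  show (LinearMap.ker (D.L g ∘ₗ _)).map _ = _
  rw [LinearMap.ker_comp]
  exact Submodule.map_comap_eq_of_surjective (kappa (R := k) R (d + e)).surjective _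

theorem ChevData.grass_eq_iff (g h : Pt k A R) :
    D.grass g = D.grass h ↔ LinearMap.ker (D.L g) = LinearMap.ker (D.L h) := by
  refine ⟨fun e => by rw [← D.map_kappa_grass, ← D.map_kappa_grass, e], fun h' => Module.Grassmannian.ext ?_⟩
  have h2 : Function.Injective (Submodule.map (kappa (R := k) R (d + e)).toLinearMap) :=
    Submodule.map_injective_of_injective (kappa (R := k) R (d + e)).injective
  exact h2 (by rw [D.map_kappa_grass, D.map_kappa_grass, h'])

/-- equality of the points means being in the same coset -/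
theorem ChevData.grass_eq_iff_coset (g h : Pt k A R) :
    D.grass g = D.grass h ↔ ∀ y ∈ RingHom.ker (π : A →+* B), (g⁻¹ * h).ofConv y = 0 := by
  rw [D.grass_eq_iff, le_antisymm_iff, D.ker_L_le_iff, D.ker_L_le_iff]
  refine ⟨fun hh => D.cut R _ hh.2, fun hh => ?_⟩
  have hker : ∀ (u : Pt k A R), (∀ y ∈ RingHom.ker (π : A →+* B), u.ofConv y = 0) →
      ∀ y ∈ RingHom.ker (π : A →+* B), u⁻¹.ofConv y = 0 := fun u hu y hy => by
    haveI : (RingHom.ker (π : A →+* B)).IsHopfIdeal k := HopfLib.isHopfIdeal_ker π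
    exact hu _ (Ideal.IsHopfIdeal.antipode_mem hy)
  have h1 := hker _ hh
  rw [_root_.mul_inv_rev, inv_inv] at h1
  exact ⟨fun j i => h1 _ (RingHom.mem_ker.2 (D.corner j i)), fun j i => hh _ (RingHom.mem_ker.2 (D.corner j i))⟩

theorem ChevData.grass_push (φ : CommAlgCat.of k R ⟶ CommAlgCat.of k R') (g : Pt k A R) :
    Module.Grassmannian.map φ.hom (D.grass g) = D.grass (push φ.hom g) := by
  refine Module.Grassmannian.ext ?_
  have h2 : Function.Injective (Submodule.map (kappa (R := k) R' (d + e)).toLinearMap) :=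
    Submodule.map_injective_of_injective (kappa (R := k) R' (d + e)).injective
  refine h2 (le_antisymm ((map_le_span φ (D.grass g)).trans (Submodule.span_le.2 ?_)) ?_)
  · rintro _ ⟨c, hc, rfl⟩
    rw [SetLike.mem_coe, D.map_kappa_grass] at hc ⊢
    refine LinearMap.mem_ker.2 (funext fun j => ?_)
    have := congrArg φ.hom.toRingHom (congrFun (LinearMap.mem_ker.1 hc) j)
    rw [D.L_apply, RingHom.map_mulVec, Pi.zero_apply, map_zero] at this
    rw [D.L_apply, ← map_inv, D.M_push]
    exact this
  · rw [D.map_kappa_grass]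
    intro y hy
    letI : Algebra R R' := φ.hom.toAlgebra
    letI : IsScalarTower k R R' := IsScalarTower.of_algebraMap_eq' φ.hom.comp_algebraMap.symm
    let z := D.M (push φ.hom g)⁻¹ *ᵥ reidx R' d e y
    have hz : y = ∑ i : Fin d, z (Sum.inl i) • fun s => φ.hom (g.ofConv (D.a (finSumFinEquiv.symm s) (Sum.inl i))) := by
      have e0 : reidx R' d e y = D.M (push φ.hom g) *ᵥ z := by
        rw [Matrix.mulVec_mulVec, D.M_mul_inv, Matrix.one_mulVec]
      funext s
      have e1 := congrFun e0 (finSumFinEquiv.symm s)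
      rw [reidx_apply, Equiv.apply_symm_apply] at e1
      rw [e1]
      rw [Matrix.mulVec, dotProduct, Fintype.sum_sum_type]
      have h2' : ∀ j', z (Sum.inr j') = 0 := fun j' => congrFun (LinearMap.mem_ker.1 hy) j'
      simp [h2', ChevData.M, mul_comm]
    rw [hz]
    refine Submodule.sum_mem _ fun i _ => Submodule.smul_mem _ _ ?_
    let c : Fin (d + e) → R := fun s => g.ofConv (D.a (finSumFinEquiv.symm s) (Sum.inl i))
    have hc : c ∈ LinearMap.ker (D.L g) := by
      refine LinearMap.mem_ker.2 (funext fun j' => ?_)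
      have : reidx R d e c = D.M g *ᵥ Pi.single (Sum.inl i) 1 := by
        funext s
        rw [Matrix.mulVec_single_one, reidx_apply]
        simp [c, ChevData.M]
      rw [D.L_apply, this, Matrix.mulVec_mulVec, D.M_inv_mul, Matrix.one_mulVec]
      simp
    let w := (kappa (R := k) R (d + e)).symm c
    have hw : w ∈ (D.grass g).toSubmodule := by
      show (D.L g) (kappa (R := k) R (d + e) w) = 0
      rw [LinearEquiv.apply_symm_apply]; exact hc
    refine ⟨(TensorProduct.AlgebraTensorModule.cancelBaseChange k R R' R' (Fin (d + e) → k)) ((1 : R') ⊗ₜ[R] w), ?_, ?_⟩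
    · rw [SetLike.mem_coe, Module.Grassmannian.map_toSubmodule, LinearMap.mem_ker, Module.Grassmannian.baseChangeMkQ,
        LinearMap.comp_apply, LinearEquiv.coe_coe, LinearEquiv.symm_apply_apply, LinearMap.baseChange_tmul,
        Submodule.mkQ_apply, (Submodule.Quotient.mk_eq_zero _).2 hw, TensorProduct.tmul_zero]
    · show kappa R' (d + e) _ = _
      rw [kappa_map]
      funext s
      rw [LinearEquiv.apply_symm_apply, one_mul]
      rfl

end Groth.Agent.GrpQLib
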