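import Groth.Agent.Stk19b.Fppf.Bootstrap
import Groth.Agent.AlgSpLib.ResidualSpace
import Groth.Agent.AlgSpLib.MonoLft
import Groth.Agent.AlgSpLib.FppfSource
import Mathlib.AlgebraicGeometry.Sites.Fpqc

/-! Factorization of morphisms with flat kernel pair as an fppf surjection followed by a monomorphism. -/

universe u

set_option autoImplicit false
set_option backward.isDefEq.respectTransparency.types false
set_option maxHeartbeats 800000

open CategoryTheory CategoryTheory.Limits AlgebraicGeometry AlgSp Groth.Agent.AlgSpLib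

namespace Groth.Agent.GrpQLib

variable {X Y : Scheme.{u}} (f : X ⟶ Y)

/-- the kernel pair, over the base -/
noncomputable abbrev kerOver : Over Y := Over.mk (pullback.fst f f ≫ f)

noncomputable abbrev kerFst : kerOver f ⟶ Over.mk f := Over.homMk (pullback.fst f f) rfl

noncomputable abbrev kerSnd : kerOver f ⟶ Over.mk f := Over.homMk (pullback.snd f f) pullback.condition.symm

theorem isPullback_kerOver :
    IsPullback (kerFst f) (kerSnd f) (Over.homMk f : Over.mk f ⟶ Over.mk (𝟙 Y))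
      (Over.homMk f : Over.mk f ⟶ Over.mk (𝟙 Y)) :=
  IsPullback.of_map (Over.forget Y) (Over.OverMorphism.ext pullback.condition) (IsPullback.of_hasPullback f f)

theorem isEqvRel_kerOver : IsEqvRel (kerFst f) (kerSnd f) := by
  have sq := isPullback_kerOver f
  refine ⟨fun T r r' h1 h2 => sq.hom_ext h2 h1, fun T => ?_⟩
  have key : ∀ a b : T ⟶ Over.mk f, ∃ r : T ⟶ kerOver f, r ≫ kerSnd f = a ∧ r ≫ kerFst f = b := fun a b =>
    ⟨sq.lift b a (Over.OverMorphism.ext ((Over.w b).trans (Over.w a).symm)), sq.lift_snd _ _ _, sq.lift_fst _ _ _⟩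
  exact ⟨fun a => key a a, fun {a b} _ => key b a, fun {a b d} _ _ => key a d⟩

theorem exists_factor [LocallyOfFinitePresentation f] [Flat (pullback.fst f f)] :
    ∃ (X' : Scheme.{u}) (f' : X ⟶ X') (f'' : X' ⟶ Y),
      Surjective f' ∧ Flat f' ∧ LocallyOfFinitePresentation f' ∧ Mono f'' ∧ f' ≫ f'' = f := by
  have hfs : Flat (kerFst f).left := ‹Flat (pullback.fst f f)›
  have hls : LocallyOfFinitePresentation (kerFst f).left :=
    MorphismProperty.pullback_fst (P := @LocallyOfFinitePresentation) f f ‹_›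
  have hlt : LocallyOfFiniteType (kerSnd f).left :=
    MorphismProperty.pullback_snd (P := @LocallyOfFiniteType) f f inferInstance
  have h := isEqvRel_kerOver f
  let F := quotSp ((yon Y).map (kerFst f)) ((yon Y).map (kerSnd f))
  let π : (yon Y).obj (Over.mk f) ⟶ F := quotSpπ _ _
  have hF : IsAlgSpace F := Stk19b.Fppf.isAlgSpace_quotSp_of_isEqvRel h
  have := etLocal_flat.{u}.localTarget
  have := etLocal_lfp.{u}.localTarget
  have hπf : RepWith @Flat π := repWith_quotSpπ h @Flat hfs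
  have hπl : RepWith @LocallyOfFinitePresentation π := repWith_quotSpπ h @LocallyOfFinitePresentation hls
  have hπs : RepWith @Surjective π := repWith_surjective_quotSpπ h
  have sq := (isPullback_kerOver f).map (yon Y)
  let u0 : Over.mk f ⟶ Over.mk (𝟙 Y) := Over.homMk f
  let d : F ⟶ (yon Y).obj (Over.mk (𝟙 Y)) := quotSpDesc ((yon Y).map u0) sq.w
  have hπd : π ≫ d = (yon Y).map u0 := quotSpπ_desc _ _ _ _
  have : Mono d := mono_quotSpDesc sq
  have hl : LocP @LocallyOfFiniteType d := by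
    intro U V a b u ha hb w
    have sqP := hπf.1.isPullback a
    let g : hπf.1.pullback a ⟶ U := hπf.1.snd a
    let k : hπf.1.pullback a ⟶ Over.mk f := hπf.1.fst' a
    have hk : (yon Y).map k = hπf.1.fst a := Functor.relativelyRepresentable.map_fst' _ _
    have hkE : Etale k.left := by
      refine ha.2 π ((yon Y).map g) k ?_
      rw [hk]
      exact sqP.flip
    have : Flat g.left := hπf.2 _ _ _ sqP
    have : LocallyOfFinitePresentation g.left := hπl.2 _ _ _ sqP
    have : Surjective g.left := hπs.2 _ _ _ sqP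
    refine lft_of_comp_fppf g.left u.left ?_
    obtain ⟨b', hb'⟩ := (yon Y).map_surjective b
    have hbE : Etale b'.left := (repWith_yon_map_iff (P := @Etale) b').1 (hb' ▸ hb)
    have e : g ≫ u ≫ b' = k ≫ u0 := by
      apply (yon Y).map_injective
      simp only [Functor.map_comp, hb', hk, ← hπd]
      rw [← w, ← Category.assoc, ← sqP.w, Category.assoc]
    have e' : (g.left ≫ u.left) ≫ b'.left = k.left ≫ f := by
      rw [Category.assoc]; exact congrArg (fun z => z.left) e
    have : LocallyOfFiniteType ((g.left ≫ u.left) ≫ b'.left) := by rw [e']; infer_instance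
    exact locallyOfFiniteType_of_comp _ b'.left
  obtain ⟨hr, -, -⟩ := mono_lft_package hF (IsAlgSpace.yon_obj _) (f := d) hl
  have sqd := hr.isPullback (𝟙 ((yon Y).obj (Over.mk (𝟙 Y))))
  have : IsIso (hr.fst (𝟙 ((yon Y).obj (Over.mk (𝟙 Y))))) := sqd.isIso_fst_of_isIso
  let e := asIso (hr.fst (𝟙 ((yon Y).obj (Over.mk (𝟙 Y)))))
  let G := hr.pullback (𝟙 ((yon Y).obj (Over.mk (𝟙 Y))))
  let p : Over.mk f ⟶ G := (yon Y).preimage (π ≫ e.inv)
  have hp : (yon Y).map p = π ≫ e.inv := (yon Y).map_preimage _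
  have sqp : IsPullback (𝟙 _) ((yon Y).map p) π e.hom := by
    refine IsPullback.of_horiz_isIso ⟨?_⟩
    rw [hp, Category.id_comp, Category.assoc, Iso.inv_hom_id, Category.comp_id]
  refine ⟨G.left, p.left, G.hom, hπs.2 _ _ _ sqp, hπf.2 _ _ _ sqp, hπl.2 _ _ _ sqp, ⟨fun {T} a b hab => ?_⟩, Over.w p⟩
  let A : Over.mk (a ≫ G.hom) ⟶ G := Over.homMk a
  let B : Over.mk (a ≫ G.hom) ⟶ G := Over.homMk b hab.symm
  have hAB : (yon Y).map A ≫ e.hom = (yon Y).map B ≫ e.hom := by
    rw [← cancel_mono d]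
    obtain ⟨c, hc⟩ := (yon Y).map_surjective (e.hom ≫ d)
    rw [Category.assoc, Category.assoc, ← hc, ← Functor.map_comp, ← Functor.map_comp]
    exact congrArg _ (Over.OverMorphism.ext (by
      exact (Category.comp_id _).symm.trans ((Over.w (A ≫ c)).trans ((Over.w (B ≫ c)).symm.trans (Category.comp_id _)))))
  exact congrArg (fun z : Over.mk (a ≫ G.hom) ⟶ G => z.left) ((yon Y).map_injective ((cancel_mono e.hom).1 hAB))

theorem unique_factor {X₁ X₂ : Scheme.{u}} (g₁ : X ⟶ X₁) (h₁ : X₁ ⟶ Y) (g₂ : X ⟶ X₂) (h₂ : X₂ ⟶ Y)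
    [Surjective g₁] [Flat g₁] [LocallyOfFinitePresentation g₁] [Mono h₁] (e₁ : g₁ ≫ h₁ = f)
    [Surjective g₂] [Flat g₂] [LocallyOfFinitePresentation g₂] [Mono h₂] (e₂ : g₂ ≫ h₂ = f) :
    ∃ φ : X₁ ≅ X₂, g₁ ≫ φ.hom = g₂ ∧ φ.hom ≫ h₂ = h₁ := by
  let a : X₁ ⟶ X₂ := EffectiveEpi.desc g₁ g₂ (fun u v w => by
    rw [← cancel_mono h₂, Category.assoc, Category.assoc, e₂, ← e₁, reassoc_of% w])
  let b : X₂ ⟶ X₁ := EffectiveEpi.desc g₂ g₁ (fun u v w => by
    rw [← cancel_mono h₁, Category.assoc, Category.assoc, e₁, ← e₂, reassoc_of% w])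
  have ha : g₁ ≫ a = g₂ := EffectiveEpi.fac _ _ _
  have hb : g₂ ≫ b = g₁ := EffectiveEpi.fac _ _ _
  refine ⟨⟨a, b, ?_, ?_⟩, ha, ?_⟩
  · rw [← cancel_epi g₁, reassoc_of% ha, hb, Category.comp_id]
  · rw [← cancel_epi g₂, reassoc_of% hb, ha, Category.comp_id]
  · rw [← cancel_epi g₁, reassoc_of% ha, e₂, e₁]

theorem flat_fst_of_factor {X' : Scheme.{u}} (f' : X ⟶ X') (f'' : X' ⟶ Y) [Flat f'] [Mono f'']
    (e : f' ≫ f'' = f) : Flat (pullback.fst f f) := by
  subst e
  let i := pullback.map f' f' (f' ≫ f'') (f' ≫ f'') (𝟙 X) (𝟙 X) f'' (Category.id_comp _).symm (Category.id_comp _).symm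
  have : IsIso i := by
    refine ⟨pullback.lift (pullback.fst _ _) (pullback.snd _ _) ?_, ?_, ?_⟩
    · rw [← cancel_mono f'', Category.assoc, Category.assoc]; exact pullback.condition
    · apply pullback.hom_ext <;> simp [i, pullback.map, pullback.lift_fst, pullback.lift_snd, pullback.lift_fst_assoc, pullback.lift_snd_assoc]
    · apply pullback.hom_ext <;> simp [i, pullback.map, pullback.lift_fst, pullback.lift_snd, pullback.lift_fst_assoc, pullback.lift_snd_assoc]
  have hfl : Flat (i ≫ pullback.fst (f' ≫ f'') (f' ≫ f'')) := by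
    rw [show i ≫ pullback.fst _ _ = pullback.fst f' f' by simp [i, pullback.map, pullback.lift_fst, pullback.lift_snd, pullback.lift_fst_assoc, pullback.lift_snd_assoc]]
    exact MorphismProperty.pullback_fst (P := @Flat) f' f' ‹_›
  exact (MorphismProperty.cancel_left_of_respectsIso @Flat i _).1 hfl

end Groth.Agent.GrpQLib
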