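import Groth.Agent.Stk19b.Fppf.Bootstrap
import Groth.Agent.AlgSpLib.QuotSpLemmas
import Groth.Agent.AlgSpLib.ThickScheme
import Groth.Prelude.Def_MoreMor
import Groth.Prelude.Def_Grpd

/-! Quotient schemes extend along saturated thickenings. -/

universe u

set_option autoImplicit false
set_option backward.isDefEq.respectTransparency.types false
set_option maxHeartbeats 800000

open CategoryTheory CategoryTheory.Limits AlgebraicGeometry AlgSp Groth.Agent.AlgSpLib

namespace Groth.Agent.GrpQLib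

variable {S : Scheme.{u}} (G : Grpd.GroupoidScheme S)

theorem isEqvRel_of_mono [Mono G.j] : IsEqvRel (Over.homMk G.s G.s_over : Over.mk G.pR ⟶ Over.mk G.pU)
    (Over.homMk G.t G.t_over : Over.mk G.pR ⟶ Over.mk G.pU) := by
  refine ⟨fun T r r' h1 h2 => Over.OverMorphism.ext ?_, fun T => ⟨fun a => ?_, fun {a b} hab => ?_, fun {a b d} hab hbd => ?_⟩⟩
  · rw [← cancel_mono G.j]
    apply pullback.hom_ext
    · simp only [Category.assoc, Grpd.GroupoidScheme.j, pullback.lift_fst]
      exact congrArg (fun z => z.left) h1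
    · simp only [Category.assoc, Grpd.GroupoidScheme.j, pullback.lift_snd]
      exact congrArg (fun z => z.left) h2
  · refine ⟨Over.homMk (a.left ≫ G.e) ?_, Over.OverMorphism.ext ?_, Over.OverMorphism.ext ?_⟩
    · show (a.left ≫ G.e) ≫ G.pR = T.hom
      rw [← G.t_over, Category.assoc, reassoc_of% G.e_t]; exact Over.w a
    · show (a.left ≫ G.e) ≫ G.t = a.left
      exact (Category.assoc _ _ _).trans ((congrArg (a.left ≫ ·) G.e_t).trans (Category.comp_id _))
    · show (a.left ≫ G.e) ≫ G.s = a.left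
      exact (Category.assoc _ _ _).trans ((congrArg (a.left ≫ ·) G.e_s).trans (Category.comp_id _))
  · obtain ⟨r, h1, h2⟩ := hab
    have k1 : r.left ≫ G.t = a.left := congrArg (fun z => z.left) h1
    have k2 : r.left ≫ G.s = b.left := congrArg (fun z => z.left) h2
    refine ⟨Over.homMk (r.left ≫ G.i) ?_, Over.OverMorphism.ext ?_, Over.OverMorphism.ext ?_⟩
    · show (r.left ≫ G.i) ≫ G.pR = T.hom
      refine (congrArg (_ ≫ ·) G.t_over.symm).trans ?_
      rw [Category.assoc, reassoc_of% G.i_t, reassoc_of% k2]; exact Over.w b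
    · show (r.left ≫ G.i) ≫ G.t = b.left
      rw [Category.assoc, G.i_t, k2]
    · show (r.left ≫ G.i) ≫ G.s = a.left
      rw [Category.assoc, G.i_s, k1]
  · obtain ⟨r, h1, h2⟩ := hab
    obtain ⟨r', h3, h4⟩ := hbd
    have k1 : r.left ≫ G.t = a.left := congrArg (fun z => z.left) h1
    have k2 : r.left ≫ G.s = b.left := congrArg (fun z => z.left) h2
    have k3 : r'.left ≫ G.t = b.left := congrArg (fun z => z.left) h3
    have k4 : r'.left ≫ G.s = d.left := congrArg (fun z => z.left) h4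
    refine ⟨Over.homMk (pullback.lift r.left r'.left (k2.trans k3.symm) ≫ G.c) ?_, Over.OverMorphism.ext ?_,
      Over.OverMorphism.ext ?_⟩
    · show (pullback.lift r.left r'.left _ ≫ G.c) ≫ G.pR = T.hom
      refine (congrArg (_ ≫ ·) G.t_over.symm).trans ?_
      refine (Category.assoc _ _ _).symm.trans ((congrArg (· ≫ G.pU) ((G.comp_t r.left r'.left _).trans k1)).trans ?_)
      exact Over.w a
    · exact (G.comp_t r.left r'.left _).trans k1
    · exact (G.comp_s r.left r'.left _).trans k4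

theorem exists_quotient_of_thickening [Mono G.j] [Surjective G.s] [Flat G.s]
    [LocallyOfFinitePresentation G.s] [LocallyOfFinitePresentation G.t]
    {U₀ : Scheme.{u}} (c₀ : U₀ ⟶ G.U) (hc : MoreMor.IsThickening c₀)
    (ψ : pullback G.s c₀ ≅ pullback G.t c₀) (hψ : ψ.hom ≫ pullback.fst G.t c₀ = pullback.fst G.s c₀)
    {Y₀ : Scheme.{u}} (p₀ : U₀ ⟶ Y₀) [Surjective p₀] [Flat p₀] [LocallyOfFinitePresentation p₀]
    (sq₀ : IsPullback (ψ.hom ≫ pullback.snd G.t c₀) (pullback.snd G.s c₀) p₀ p₀) :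
    ∃ (Y : Scheme.{u}) (p : G.U ⟶ Y), Surjective p ∧ Flat p ∧ LocallyOfFinitePresentation p ∧
      IsPullback G.t G.s p p := by
  have : IsClosedImmersion c₀ := hc.1
  let U : Over S := Over.mk G.pU
  let R : Over S := Over.mk G.pR
  let s : R ⟶ U := Over.homMk G.s G.s_over
  let t : R ⟶ U := Over.homMk G.t G.t_over
  have h : IsEqvRel s t := isEqvRel_of_mono G
  have hsf : Flat s.left := ‹Flat G.s›
  have hsl : LocallyOfFinitePresentation s.left := ‹LocallyOfFinitePresentation G.s›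
  have : LocallyOfFiniteType t.left := inferInstanceAs (LocallyOfFiniteType G.t)
  let F := quotSp ((yon S).map s) ((yon S).map t)
  let π : (yon S).obj U ⟶ F := quotSpπ _ _
  have hF : IsAlgSpace F := Stk19b.Fppf.isAlgSpace_quotSp_of_isEqvRel h
  have := etLocal_flat.{u}.localTarget
  have := etLocal_lfp.{u}.localTarget
  have hπf : RepWith @Flat π := repWith_quotSpπ h @Flat hsf
  have hπl : RepWith @LocallyOfFinitePresentation π := repWith_quotSpπ h @LocallyOfFinitePresentation hsl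
  have hπs : RepWith @Surjective π := repWith_surjective_quotSpπ h
  have hY₀w : ∀ {W : Scheme.{u}} (g₁ g₂ : W ⟶ U₀), g₁ ≫ p₀ = g₂ ≫ p₀ →
      g₁ ≫ c₀ ≫ G.pU = g₂ ≫ c₀ ≫ G.pU := fun g₁ g₂ e => by
    rw [← sq₀.lift_fst g₁ g₂ e, ← congrArg (· ≫ c₀ ≫ G.pU) (sq₀.lift_snd g₁ g₂ e)]
    simp only [Category.assoc]
    congr 1
    rw [← reassoc_of% (pullback.condition (f := G.t) (g := c₀)), G.t_over, reassoc_of% hψ,
      ← reassoc_of% (pullback.condition (f := G.s) (g := c₀)), G.s_over]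
  let qY : Y₀ ⟶ S := EffectiveEpi.desc p₀ (c₀ ≫ G.pU) hY₀w
  have hqY : p₀ ≫ qY = c₀ ≫ G.pU := EffectiveEpi.fac _ _ _
  let O₀ : Over S := Over.mk (c₀ ≫ G.pU)
  let Z₀ : Over S := Over.mk qY
  let P₀ : Over S := Over.mk (pullback.snd G.s c₀ ≫ c₀ ≫ G.pU)
  let c : O₀ ⟶ U := Over.homMk c₀
  let q₀ : O₀ ⟶ Z₀ := Over.homMk p₀ hqY
  let a₀ : P₀ ⟶ O₀ := Over.homMk (ψ.hom ≫ pullback.snd G.t c₀) (by
    show (ψ.hom ≫ pullback.snd G.t c₀) ≫ c₀ ≫ G.pU = pullback.snd G.s c₀ ≫ c₀ ≫ G.pU
    rw [← hqY, ← Category.assoc, sq₀.w, Category.assoc])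
  let b₀ : P₀ ⟶ O₀ := Over.homMk (pullback.snd G.s c₀) rfl
  let rr : P₀ ⟶ R := Over.homMk (pullback.fst G.s c₀) (by
    show pullback.fst G.s c₀ ≫ G.pR = pullback.snd G.s c₀ ≫ c₀ ≫ G.pU
    rw [← G.s_over, pullback.condition_assoc])
  have hrs : rr ≫ s = b₀ ≫ c := Over.OverMorphism.ext pullback.condition
  have hrt : rr ≫ t = a₀ ≫ c := Over.OverMorphism.ext (by
    show pullback.fst G.s c₀ ≫ G.t = (ψ.hom ≫ pullback.snd G.t c₀) ≫ c₀
    rw [← hψ, Category.assoc, Category.assoc, pullback.condition])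
  have sqY : IsPullback ((yon S).map a₀) ((yon S).map b₀) ((yon S).map q₀) ((yon S).map q₀) :=
    (IsPullback.of_map (Over.forget S) (show a₀ ≫ q₀ = b₀ ≫ q₀ from Over.OverMorphism.ext sq₀.w)
      (show IsPullback a₀.left b₀.left q₀.left q₀.left from sq₀)).map (yon S)
  have hls : Sheaf.IsLocallySurjective ((yon S).map q₀) :=
    isLocallySurjective_of_repWith ((repWith_yon_map_iff _ q₀).2 ‹Flat p₀›)
      ((repWith_yon_map_iff _ q₀).2 ‹LocallyOfFinitePresentation p₀›)
      ((repWith_yon_map_iff _ q₀).2 ‹Surjective p₀›)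
  have : Epi ((yon S).map q₀) := (Sheaf.isLocallySurjective_iff_epi' (Type (u + 1)) _).1 hls
  have : IsRegularEpiCategory (Sp S) :=
    inferInstanceAs (IsRegularEpiCategory (Sheaf (J S) (Type (u + 1))))
  have : IsRegularEpi ((yon S).map q₀) := IsRegularEpiCategory.regularEpiOfEpi _
  have hcond : (yon S).map a₀ ≫ (yon S).map c ≫ π = (yon S).map b₀ ≫ (yon S).map c ≫ π := by
    rw [← Functor.map_comp_assoc, ← Functor.map_comp_assoc, ← hrt, ← hrs, Functor.map_comp_assoc,
      Functor.map_comp_assoc, quotSp_condition]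
  let i : (yon S).obj Z₀ ⟶ F := EffectiveEpi.desc ((yon S).map q₀) ((yon S).map c ≫ π)
    (fun g₁ g₂ e => by
      rw [← sqY.lift_fst g₁ g₂ e, ← congrArg (· ≫ (yon S).map c ≫ π) (sqY.lift_snd g₁ g₂ e),
        Category.assoc, Category.assoc, hcond])
  have hi : (yon S).map q₀ ≫ i = (yon S).map c ≫ π := EffectiveEpi.fac _ _ _
  have : Mono c := Over.mono_of_mono_left (Over.homMk c₀ : O₀ ⟶ U)
  have : Mono ((yon S).map c) := Functor.map_mono _ _
  let L : (yon S).obj O₀ ⟶ pullback π i := pullback.lift ((yon S).map c) ((yon S).map q₀) hi.symm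
  have hL1 : L ≫ pullback.fst π i = (yon S).map c := pullback.lift_fst _ _ _
  have hL2 : L ≫ pullback.snd π i = (yon S).map q₀ := pullback.lift_snd _ _ _
  have : Mono L := by
    have : Mono (L ≫ pullback.fst π i) := by rw [hL1]; infer_instance
    exact mono_of_mono L (pullback.fst π i)
  have : Epi L := ⟨fun {Z} g₁ g₂ hg => hom_ext_of_yon fun T g => by
    obtain ⟨C₁, hC₁, h₁⟩ := exists_covering_lift ((yon S).map q₀) (g ≫ pullback.snd π i)
    refine eq_of_covering hC₁ fun T₁ f₁ hf₁ => ?_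
    obtain ⟨v, hv⟩ := h₁ f₁ hf₁
    have e : ((yon S).map f₁ ≫ g ≫ pullback.fst π i) ≫ π = (v ≫ (yon S).map c) ≫ π := by
      rw [Category.assoc, Category.assoc, pullback.condition, Category.assoc, ← hi, reassoc_of% hv]
    obtain ⟨C₂, hC₂, h₂⟩ := exists_covering_rel _ _ (isEqvRelSp_yon h).equivalence _ _ e
    refine eq_of_covering hC₂ fun T₂ f₂ hf₂ => ?_
    obtain ⟨r, hr₁, hr₂⟩ := h₂ f₂ hf₂
    obtain ⟨r, rfl⟩ := (yon S).map_surjective r
    obtain ⟨v', hv'⟩ := (yon S).map_surjective ((yon S).map f₂ ≫ v)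
    have hv'' : r ≫ s = v' ≫ c := (yon S).map_injective (by
      rw [Functor.map_comp, Functor.map_comp, hr₂, hv', Category.assoc])
    let w₀ : T₂ ⟶ P₀ := Over.homMk (pullback.lift r.left v'.left (congrArg (fun z => z.left) hv'')) (by
      show pullback.lift r.left v'.left _ ≫ pullback.snd G.s c₀ ≫ c₀ ≫ G.pU = T₂.hom
      rw [pullback.lift_snd_assoc]; exact Over.w v')
    have hw₁ : w₀ ≫ rr = r := Over.OverMorphism.ext (pullback.lift_fst _ _ _)
    have hw₂ : w₀ ≫ b₀ = v' := Over.OverMorphism.ext (pullback.lift_snd _ _ _)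
    have hw₃ : (yon S).map (w₀ ≫ a₀) ≫ L = (yon S).map f₂ ≫ (yon S).map f₁ ≫ g := by
      refine pullback.hom_ext ?_ ?_
      · rw [Category.assoc, hL1, ← Functor.map_comp, Category.assoc, ← hrt, reassoc_of% hw₁, Functor.map_comp, hr₁]
        simp only [Category.assoc, Functor.map_comp]
      · rw [Category.assoc, hL2, Functor.map_comp, Category.assoc, sqY.w, ← Functor.map_comp_assoc, hw₂, hv',
          Category.assoc, hv]
        simp only [Category.assoc, Functor.map_comp]
    rw [← reassoc_of% hw₃, ← reassoc_of% hw₃, hg]⟩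
  have : IsIso L := isIso_of_mono_of_epi L
  have sqi : IsPullback ((yon S).map q₀) ((yon S).map c) i π :=
    IsPullback.of_iso_pullback ⟨hi⟩ (asIso L ≪≫ pullbackSymmetry π i)
      (by simp only [Iso.trans_hom, asIso_hom, Category.assoc, pullbackSymmetry_hom_comp_fst, hL2])
      (by simp only [Iso.trans_hom, asIso_hom, Category.assoc, pullbackSymmetry_hom_comp_snd, hL1])
  have hπls : Sheaf.IsLocallySurjective π := isLocallySurjective_of_repWith hπf hπl hπs
  have hrep : Representable i := hF.representable_from_yon i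
  have hit : IsThickMor i := RepWith.and
    (repWith_of_isLocallySurjective hrep π sqi @IsClosedImmersion ((repWith_yon_map_iff _ c).2 hc.1))
    (repWith_of_isLocallySurjective hrep π sqi @Surjective ((repWith_yon_map_iff _ c).2 hc.2))
  obtain ⟨Q, ⟨e⟩⟩ := ThickAff.exists_iso_yon_of_thick hF i hit
  let p : U ⟶ Q := (yon S).preimage (π ≫ e.inv)
  have hp : (yon S).map p = π ≫ e.inv := (yon S).map_preimage _
  have sqp : IsPullback (𝟙 _) ((yon S).map p) π e.hom := by
    refine IsPullback.of_horiz_isIso ⟨?_⟩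
    rw [hp, Category.id_comp, Category.assoc, Iso.inv_hom_id, Category.comp_id]
  have sqK : IsPullback ((yon S).map t) ((yon S).map s) π π := isPullback_quotSpπ (isEqvRelSp_yon h)
  have sqQ : IsPullback ((yon S).map t) ((yon S).map s) ((yon S).map p) ((yon S).map p) := by
    rw [hp]
    exact sqK.of_iso (Iso.refl _) (Iso.refl _) (Iso.refl _) e.symm (by simp) (by simp) (by simp) (by simp)
  exact ⟨Q.left, p.left, hπs.2 _ _ _ sqp, hπf.2 _ _ _ sqp, hπl.2 _ _ _ sqp,
    (IsPullback.of_map (yon S) ((yon S).map_injective (by rw [Functor.map_comp, Functor.map_comp]; exact sqQ.w)) sqQ).map (Over.forget S)⟩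

end Groth.Agent.GrpQLib
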